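import Mathlib

/-!
Automorphisms of a subgroup acting on sections of prime order by powers.
-/

set_option autoImplicit false

open Subgroup

namespace CfsgLib.MaxClassEss

universe u

variable {G : Type u} [Group G]

/-- `α` acts as the `a`-th power map on `H / K`. -/
def Scal {N : Subgroup G} (α : MulAut N) (H K : Subgroup G) (a : ℤ) : Prop :=
  ∀ x : N, (x : G) ∈ H → ((x : G) ^ a)⁻¹ * (α x : G) ∈ K

/-- A section of order `p`. -/
structure Sec (p : ℕ) (H K : Subgroup G) : Prop where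
  le : K ≤ H
  rel : K.relIndex H = p
  nor : (K.subgroupOf H).Normal

theorem sec_of_card [Finite G] {p : ℕ} [hp : Fact p.Prime] (hG : IsPGroup p G) {H K : Subgroup G}
    (hKH : K ≤ H) (h : Nat.card H = p * Nat.card K) : Sec p H K := by
  have hr : K.relIndex H = p := by
    have h1 := (K.subgroupOf H).card_mul_index
    rw [Nat.card_congr (subgroupOfEquivOfLe hKH).toEquiv, h, mul_comm p] at h1
    exact Nat.eq_of_mul_eq_mul_left Nat.card_pos h1
  refine ⟨hKH, hr, normal_of_index_eq_minFac_card ?_⟩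
  obtain ⟨k, hk⟩ := IsPGroup.iff_card.1 (hG.to_subgroup H)
  rcases k with _ | k
  · rw [pow_zero] at hk
    rw [hk] at h
    exact absurd (Nat.le_of_dvd Nat.one_pos ⟨_, h⟩) (not_le.2 hp.out.one_lt)
  · show K.relIndex H = _
    rw [hr, hk, Nat.Prime.pow_minFac hp.out k.succ_ne_zero]

variable {p : ℕ} [hp : Fact p.Prime] {H K : Subgroup G}

theorem Sec.pow_mem (s : Sec p H K) {x : G} (hx : x ∈ H) : x ^ p ∈ K := by
  haveI := s.nor
  have h := (K.subgroupOf H).pow_index_mem ⟨x, hx⟩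
  have hr : (K.subgroupOf H).index = p := s.rel
  rw [hr] at h
  exact h

theorem Sec.zpow_mul_mem (s : Sec p H K) {x : G} (hx : x ∈ H) (i : ℤ) : x ^ ((p : ℤ) * i) ∈ K := by
  rw [zpow_mul, zpow_natCast]
  exact zpow_mem (s.pow_mem hx) i

theorem Sec.dvd_of_zpow_mem (s : Sec p H K) {x : G} (hx : x ∈ H) (hxK : x ∉ K) {i : ℤ}
    (h : x ^ i ∈ K) : (p : ℤ) ∣ i := by
  by_contra hi
  have hco : IsCoprime (p : ℤ) i :=
    (Nat.prime_iff_prime_int.1 hp.out).coprime_iff_not_dvd.2 hi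
  obtain ⟨u, v, huv⟩ := hco
  refine hxK ?_
  have e : x = x ^ ((p : ℤ) * u) * (x ^ i) ^ v := by
    rw [← zpow_mul, ← zpow_add, show (p : ℤ) * u + i * v = 1 by rw [← huv]; ring, zpow_one]
  rw [e]
  exact mul_mem (s.zpow_mul_mem hx u) (zpow_mem h v)

theorem mk_eq_iff [(K.subgroupOf H).Normal] {x y : H} :
    QuotientGroup.mk' (K.subgroupOf H) x = QuotientGroup.mk' (K.subgroupOf H) y ↔
      (x : G)⁻¹ * y ∈ K :=
  QuotientGroup.eq.trans mem_subgroupOf

theorem Sec.exists_zpow (s : Sec p H K) {x : G} (hx : x ∈ H) (hxK : x ∉ K) {y : G} (hy : y ∈ H) :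
    ∃ i : ℤ, (x ^ i)⁻¹ * y ∈ K := by
  haveI := s.nor
  have hc : Nat.card (H ⧸ K.subgroupOf H) = p := s.rel
  have hne : QuotientGroup.mk' (K.subgroupOf H) ⟨x, hx⟩ ≠ 1 := fun h =>
    hxK ((QuotientGroup.eq_one_iff (⟨x, hx⟩ : H)).1 h)
  obtain ⟨i, hi⟩ := mem_zpowers_iff.1
    (mem_zpowers_of_prime_card hc hne (g' := QuotientGroup.mk' (K.subgroupOf H) ⟨y, hy⟩))
  rw [← map_zpow] at hi
  exact ⟨i, by simpa using mk_eq_iff.1 hi⟩

variable {N : Subgroup G} {α β : MulAut N} {a b : ℤ}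

theorem Scal.apply_mem (h : Scal α H K a) (hKH : K ≤ H) {x : N} (hx : (x : G) ∈ H) :
    (α x : G) ∈ H := by
  simpa using mul_mem (zpow_mem hx a) (hKH (h x hx))

theorem Scal.congr (s : Sec p H K) (h : Scal α H K a) (hab : (p : ℤ) ∣ a - b) : Scal α H K b := by
  intro x hx
  obtain ⟨k, hk⟩ := hab
  have e : ((x : G) ^ b)⁻¹ * (α x : G) = (x : G) ^ ((p : ℤ) * k) * (((x : G) ^ a)⁻¹ * (α x : G)) := by
    rw [← zpow_neg, ← zpow_neg, ← mul_assoc, ← zpow_add, ← hk]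
    congr 2
    ring
  rw [e]
  exact mul_mem (s.zpow_mul_mem hx k) (h x hx)

theorem Scal.unique (s : Sec p H K) (hN : H ≤ N) (hne : ∃ x ∈ H, x ∉ K) (h : Scal α H K a)
    (h' : Scal α H K b) : (p : ℤ) ∣ a - b := by
  obtain ⟨x, hx, hxK⟩ := hne
  refine s.dvd_of_zpow_mem hx hxK ?_
  have := mul_mem (h' ⟨x, hN hx⟩ hx) (inv_mem (h ⟨x, hN hx⟩ hx))
  simp only [mul_inv_rev, inv_inv, mul_assoc, mul_inv_cancel_left] at this
  rw [show a - b = -b + a by ring, zpow_add, zpow_neg]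
  exact this

theorem scal_of_point (s : Sec p H K) (hN : H ≤ N) (hK : ∀ x : N, (x : G) ∈ K → (α x : G) ∈ K)
    {x : G} (hx : x ∈ H) (hxK : x ∉ K) (h : (x ^ a)⁻¹ * (α ⟨x, hN hx⟩ : G) ∈ K) :
    Scal α H K a := by
  intro y hy
  obtain ⟨i, hi⟩ := s.exists_zpow hx hxK hy
  haveI := s.nor
  set π := QuotientGroup.mk' (K.subgroupOf H)
  have hαx : (α ⟨x, hN hx⟩ : G) ∈ H := by simpa using mul_mem (zpow_mem hx a) (s.le h)
  set k : N := ⟨(x ^ i)⁻¹ * y, hN (s.le hi)⟩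
  have hye : y = ⟨x, hN hx⟩ ^ i * k := Subtype.ext (by simp [k])
  have hαy : (α y : G) = (α ⟨x, hN hx⟩ : G) ^ i * (α k : G) := by
    rw [hye, map_mul, map_zpow]; simp
  have h1 : π ⟨_, hαx⟩ = π ⟨x, hx⟩ ^ a := by
    rw [← map_zpow]; exact (mk_eq_iff.2 (by simpa using h)).symm
  have hαyH : (α y : G) ∈ H := hαy ▸ mul_mem (zpow_mem hαx i) (s.le (hK k hi))
  have h2 : π ⟨_, hαyH⟩ = π ⟨x, hx⟩ ^ (a * i) := by
    rw [show (⟨_, hαyH⟩ : H) = ⟨_, hαx⟩ ^ i * ⟨_, s.le (hK k hi)⟩ from Subtype.ext (by simpa using hαy),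
      map_mul, map_zpow, h1, ← zpow_mul,
      show π ⟨_, s.le (hK k hi)⟩ = 1 from (QuotientGroup.eq_one_iff _).2 (hK k hi), mul_one]
  have h3 : π ⟨(y : G), hy⟩ = π ⟨x, hx⟩ ^ i := by
    rw [← map_zpow]; exact (mk_eq_iff.2 (by simpa using hi)).symm
  have h4 : π (⟨(y : G), hy⟩ ^ a) = π ⟨_, hαyH⟩ := by
    rw [map_zpow, h2, h3, ← zpow_mul, mul_comm]
  simpa using mk_eq_iff.1 h4

theorem Scal.trans (s : Sec p H K) (hK : ∀ x : N, (x : G) ∈ K → (α x : G) ∈ K)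
    (ha : Scal α H K a) (hb : Scal β H K b) : Scal (α * β) H K (a * b) := by
  intro x hx
  haveI := s.nor
  set π := QuotientGroup.mk' (K.subgroupOf H)
  have hβ := hb.apply_mem s.le hx
  have hαβ := ha.apply_mem s.le hβ
  have h1 : π ⟨_, hαβ⟩ = π ⟨_, hβ⟩ ^ a := by
    rw [← map_zpow]; exact (mk_eq_iff.2 (by simpa using ha (β x) hβ)).symm
  have h2 : π ⟨_, hβ⟩ = π ⟨_, hx⟩ ^ b := by
    rw [← map_zpow]; exact (mk_eq_iff.2 (by simpa using hb x hx)).symm
  have h3 : π (⟨(x : G), hx⟩ ^ (a * b)) = π ⟨_, hαβ⟩ := by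
    rw [map_zpow, h1, h2, ← zpow_mul, mul_comm]
  simpa using mk_eq_iff.1 h3

theorem scal_one : Scal (1 : MulAut N) H K 1 := fun x _ => by simp

theorem scal_pow (s : Sec p H K) (hK : ∀ x : N, (x : G) ∈ K → (α x : G) ∈ K) (ha : Scal α H K a) :
    ∀ k : ℕ, Scal (α ^ k) H K (a ^ k)
  | 0 => by simpa using scal_one
  | k + 1 => by
      rw [pow_succ' α, pow_succ' a]
      exact ha.trans s hK (scal_pow s hK ha k)

/-- An automorphism of `p`-power order acts trivially on an invariant section of order `p`. -/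
theorem scal_of_pow (s : Sec p H K) (hN : H ≤ N) (hH : ∀ x : N, (x : G) ∈ H → (α x : G) ∈ H)
    (hK : ∀ x : N, (x : G) ∈ K → (α x : G) ∈ K) {k : ℕ} (hk : α ^ p ^ k = 1) : Scal α H K 1 := by
  by_cases hne : ∃ x ∈ H, x ∉ K
  · obtain ⟨x, hx, hxK⟩ := hne
    obtain ⟨a, ha⟩ := s.exists_zpow hx hxK (hH ⟨x, hN hx⟩ hx)
    have hs := scal_of_point s hN hK hx hxK ha
    have h1 := scal_pow s hK hs (p ^ k)
    rw [hk] at h1
    have h2 := Scal.unique s hN ⟨x, hx, hxK⟩ h1 scal_one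
    refine hs.congr s ?_
    rw [← ZMod.intCast_zmod_eq_zero_iff_dvd] at h2 ⊢
    push_cast at h2 ⊢
    rwa [ZMod.pow_card_pow] at h2
  · push Not at hne
    intro x hx
    simpa using mul_mem (inv_mem (hne _ hx)) (hne _ (hH x hx))

/-- Preservation of a subgroup passes to inverses. -/
theorem symm_mem [Finite G] (hN : H ≤ N) (hH : ∀ x : N, (x : G) ∈ H → (α x : G) ∈ H) {x : N}
    (hx : (x : G) ∈ H) : ((α⁻¹ : MulAut N) x : G) ∈ H := by
  let f : H → H := fun y => ⟨_, hH ⟨y, hN y.2⟩ y.2⟩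
  have hf : Function.Injective f := fun y z h => by
    have := α.injective (Subtype.ext (congrArg (fun u : H => (u : G)) h) :
      α ⟨(y : G), hN y.2⟩ = α ⟨(z : G), hN z.2⟩)
    exact Subtype.ext (congrArg (fun u : N => (u : G)) this)
  obtain ⟨y, hy⟩ := Finite.injective_iff_surjective.1 hf ⟨x, hx⟩
  have e : α ⟨(y : G), hN y.2⟩ = x := Subtype.ext (congrArg (fun u : H => (u : G)) hy)
  rw [← e, MulAut.inv_apply_self]
  exact y.2

/-- Conjugating an automorphism trivial on a section by one preserving the section. -/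
theorem scal_conj [Finite G] (hN : H ≤ N) (hH : ∀ x : N, (x : G) ∈ H → (α x : G) ∈ H)
    (hK : ∀ x : N, (x : G) ∈ K → (α x : G) ∈ K) (hb : Scal β H K 1) :
    Scal (α * β * α⁻¹) H K 1 := by
  intro x hx
  set y := (α⁻¹ : MulAut N) x with hy
  have hk := hb y (symm_mem hN hH hx)
  rw [zpow_one] at hk
  have h1 := hK (y⁻¹ * β y) hk
  rw [map_mul, map_inv] at h1
  rw [zpow_one]
  simpa [hy, MulAut.mul_apply] using h1

end CfsgLib.MaxClassEss
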