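import Cfsg.Agent.FGSA.MaximalClassSection
import Cfsg.Agent.FGSA.SoftTower
import Cfsg.Agent.Fusion.MaximalClassEssential
import Cfsg.Agent.Solvable.Basics
import Cfsg.Agent.MaxClassEss.Auto

/-!
A soft elementary abelian subgroup of order `p ^ 3` in a `p`-group of maximal class.
-/

set_option autoImplicit false
set_option linter.unusedSectionVars false
set_option maxHeartbeats 1000000

open Subgroup
open scoped commutatorElement

namespace CfsgLib.MaxClassEss

open CfsgLib.FGSA.MaxClass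

universe u

variable {G : Type u} [Group G]

/-- The normalizer tower. -/
def tow (E : Subgroup G) : ℕ → Subgroup G
  | 0 => E
  | k + 1 => normalizer (tow E k : Set G)

/-- The tower cut down to the derived subgroup. -/
def bb (E : Subgroup G) (k : ℕ) : Subgroup G := tow E k ⊓ lcs G 1

/-- The commutator subgroup of the first normalizer. -/
def cc (E : Subgroup G) : Subgroup G := ⁅tow E 1, tow E 1⁆

/-- The basic setting. -/
structure Setup (p n : ℕ) (E : Subgroup G) : Prop where
  pG : IsPGroup p G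
  cardG : Nat.card G = p ^ n
  n5 : 5 ≤ n
  p5 : 5 ≤ p
  max : lcs G (n - 2) ≠ ⊥
  cardE : Nat.card E = p ^ 3
  expE : ∀ x ∈ E, x ^ p = 1
  soft : CfsgLib.Soft.IsSoft p E

variable [Finite G] {p n : ℕ} [hp : Fact p.Prime] {E : Subgroup G}

theorem mem_normalizer_of_map_le {H : Subgroup G} {g : G}
    (h : ∀ x ∈ H, g * x * g⁻¹ ∈ H) : g ∈ normalizer (H : Set G) := by
  have e : H.map (MulAut.conj g).toMonoidHom = H := by
    refine eq_of_le_of_card_ge ?_ (card_map_of_injective (MulAut.conj g).injective).ge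
    rintro _ ⟨x, hx, rfl⟩
    exact h x hx
  refine mem_normalizer_iff.2 fun x => ⟨h x, fun hx => ?_⟩
  rw [← e] at hx
  obtain ⟨y, hy, hye⟩ := hx
  rwa [← (MulAut.conj g).injective (show MulAut.conj g y = MulAut.conj g x from hye)]

/-- A `p`-group centralizes a section of order `p` that it normalizes. -/
theorem comm_mem_sec (hG : IsPGroup p G) {H K : Subgroup G} (s : Sec p H K) {g : G}
    (hH : g ∈ normalizer (H : Set G)) (hK : g ∈ normalizer (K : Set G)) {x : G} (hx : x ∈ H) :
    ⁅g, x⁆ ∈ K := by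
  set α : MulAut H := H.normalizerMonoidHom ⟨g, hH⟩ with hα
  have hc : ∀ y : H, (α y : G) = g * y * g⁻¹ := fun y => rfl
  obtain ⟨k, hk⟩ := hG g
  have hpow : α ^ p ^ k = 1 := by
    rw [hα, ← map_pow, show (⟨g, hH⟩ : normalizer (H : Set G)) ^ p ^ k = 1 from Subtype.ext hk,
      map_one]
  have h := scal_of_pow s le_rfl (fun y _ => (α y).2)
    (fun y hy => by rw [hc]; exact (mem_normalizer_iff.1 hK _).1 hy) hpow ⟨x, hx⟩ hx
  simp only [zpow_one, hc] at h
  haveI := s.nor
  have h2 := ‹(K.subgroupOf H).Normal›.conj_mem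
    (⟨x⁻¹ * (g * x * g⁻¹), s.le h⟩ : H) (mem_subgroupOf.2 h) ⟨x, hx⟩
  rw [mem_subgroupOf] at h2
  simpa [commutatorElement_def, mul_assoc] using h2

namespace Setup

variable (hS : Setup p n E)
include hS

theorem tower : CfsgLib.Soft.TowerProp p E := CfsgLib.Soft.tower hS.pG hS.soft

theorem le_tow : ∀ k, E ≤ tow E k
  | 0 => le_rfl
  | k + 1 => (le_tow k).trans le_normalizer

theorem card_tow : ∀ k, k ≤ n - 3 → Nat.card (tow E k) = p ^ (k + 3) := by
  intro k
  induction k with
  | zero => exact fun _ => hS.cardE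
  | succ k ih =>
    intro hk
    have h1 := ih (by omega)
    have hne : tow E k ≠ ⊤ := fun h => by
      rw [h, card_top, hS.cardG] at h1
      have := Nat.pow_right_injective hp.out.two_le h1
      omega
    have h2 : (tow E k).relIndex (tow E (k + 1)) = p := hS.tower.1 _ (hS.le_tow k) hne
    have h3 := relIndex_mul_relIndex ⊥ (tow E k) (tow E (k + 1)) bot_le le_normalizer
    rw [relIndex_bot_left, relIndex_bot_left, h1, h2] at h3
    rw [← h3]
    ring

theorem tow_last : tow E (n - 3) = ⊤ := eq_top_of_card_eq _ (by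
  rw [hS.card_tow _ le_rfl, hS.cardG]; congr 1; have := hS.n5; omega)

theorem tow_ne_top {k : ℕ} (hk : k + 4 ≤ n) : tow E k ≠ ⊤ := fun h => by
  have h1 := hS.card_tow k (by omega)
  rw [h, card_top, hS.cardG] at h1
  have := Nat.pow_right_injective hp.out.two_le h1
  omega

omit hp in
theorem tow_mono {j k : ℕ} (h : j ≤ k) : tow E j ≤ tow E k := by
  induction h with
  | refl => exact le_rfl
  | step _ ih => exact ih.trans le_normalizer

theorem eq_tow {K : Subgroup G} (hK : E ≤ K) {k : ℕ} (hk : k ≤ n - 3)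
    (hc : Nat.card K = p ^ (k + 3)) : K = tow E k := by
  rcases CfsgLib.Soft.chain hS.pG E hS.tower.1 K (tow E k) hK (hS.le_tow k) with h | h
  · exact eq_of_le_of_card_ge h (by rw [hS.card_tow k hk, hc])
  · exact (eq_of_le_of_card_ge h (by rw [hS.card_tow k hk, hc])).symm

theorem card_gamma {i : ℕ} (hi : 1 ≤ i) (hin : i ≤ n - 1) :
    Nat.card (lcs G i) = p ^ (n - 1 - i) := card_lcs hS.pG hS.cardG hS.max hi hin

theorem gamma_comm_bot {i j : ℕ} (h : n - 1 ≤ i + j + 1) {x y : G} (hx : x ∈ lcs G i)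
    (hy : y ∈ lcs G j) : x * y = y * x := by
  have h1 := commutator_lcs j i (commutator_mem_commutator hx hy)
  rw [lcs_last hS.pG hS.cardG (by have := hS.n5; omega) hS.max h, mem_bot] at h1
  exact commutatorElement_eq_one_iff_mul_comm.1 h1

theorem center_eq : center G = lcs G (n - 2) := by
  have h := hS.n5
  refine (eq_of_le_of_card_ge (fun z hz => mem_center_iff.2 fun x =>
    (last_central hS.pG hS.cardG (by omega) hS.max hz x).symm) ?_).symm
  rw [(CfsgLib.Fusion.MaximalClass.card_upper hS.pG hS.cardG (by omega) hS.max).1,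
    hS.card_gamma (by omega) (by omega), show n - 1 - (n - 2) = 1 by omega, pow_one]

theorem center_le : center G ≤ E := fun _z hz =>
  hS.soft.cent (mem_centralizer_iff.2 fun a _ => mem_center_iff.1 hz a)

theorem index_of_card {K : Subgroup G} (hK : Nat.card K = p ^ (n - 1)) : K.index = p := by
  have := K.card_mul_index
  rw [hK, hS.cardG, show p ^ n = p ^ (n - 1) * p by
    rw [← pow_succ]; congr 1; have := hS.n5; omega] at this
  exact Nat.eq_of_mul_eq_mul_left (pow_pos hp.out.pos _) this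

theorem gamma_one_le {K : Subgroup G} (hK : K.index = p) : lcs G 1 ≤ K := by
  haveI : K.Normal := normal_of_index_eq_minFac_card (by
    rw [hK, hS.cardG, Nat.Prime.pow_minFac hp.out (by have := hS.n5; omega)])
  exact CfsgLib.Uniserial.commutator_le_of_index_prime hK

theorem gamma_le_max : lcs G 1 ≤ tow E (n - 4) := hS.gamma_one_le (hS.index_of_card (by
  rw [hS.card_tow _ (by omega)]; congr 1; have := hS.n5; omega))

theorem le_max {K : Subgroup G} (hK : E ≤ K) (hKt : K ≠ ⊤) : K ≤ tow E (n - 4) := by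
  rcases CfsgLib.Soft.chain hS.pG E hS.tower.1 K (tow E (n - 4)) hK (hS.le_tow _) with h | h
  · exact h
  obtain ⟨a, ha⟩ := IsPGroup.iff_card.1 (hS.pG.to_subgroup K)
  have h1 : a ≤ n - 1 := by
    by_contra hlt
    refine hKt (eq_top_of_card_eq _ (le_antisymm (card_le_card_group K) ?_))
    rw [ha, hS.cardG]
    exact Nat.pow_le_pow_right hp.out.pos (by omega)
  refine (eq_of_le_of_card_ge h ?_).ge
  rw [ha, hS.card_tow _ (by omega)]
  exact Nat.pow_le_pow_right hp.out.pos (by have := hS.n5; omega)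

theorem not_le_gamma : ¬ E ≤ lcs G 1 := by
  intro hE
  have hn := hS.n5
  obtain ⟨x, hx⟩ : ∃ x : G, x ∉ tow E (n - 4) := by
    by_contra h
    push Not at h
    exact hS.tow_ne_top (k := n - 4) (by omega) ((eq_top_iff' _).2 h)
  haveI := lcs_normal (G := G) 1
  set K := zpowers x ⊔ lcs G 1 with hK
  have hKt : K ≠ ⊤ := by
    intro h
    refine CfsgLib.Uniserial.not_isCyclic_abelianization hS.pG
      (fun he => hS.max (le_bot_iff.1 (((⊤ : Subgroup G).lowerCentralSeries_antitone
        (show 1 ≤ n - 2 by omega)).trans he.le))) ⟨⟨(x : G ⧸ lcs G 1), fun q => ?_⟩⟩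
    obtain ⟨y, rfl⟩ := QuotientGroup.mk_surjective q
    have hy : y ∈ K := h ▸ mem_top y
    obtain ⟨a, ha, b, hb, rfl⟩ := mem_sup_of_normal_right.1 hy
    obtain ⟨i, rfl⟩ := mem_zpowers_iff.1 ha
    refine ⟨i, ?_⟩
    show (x : G ⧸ lcs G 1) ^ i = _
    rw [QuotientGroup.mk_mul, (QuotientGroup.eq_one_iff b).2 hb, mul_one, QuotientGroup.mk_zpow]
  refine hx (hS.le_max (hE.trans le_sup_right) hKt (mem_sup_left (mem_zpowers x)))

theorem exists_e : ∃ e ∈ E, e ∉ lcs G 1 := SetLike.not_le_iff_exists.1 hS.not_le_gamma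

theorem sup_gamma {k : ℕ} (hk : k + 4 ≤ n) : tow E k ⊔ lcs G 1 = tow E (n - 4) := by
  refine eq_of_le_of_card_ge (sup_le (hS.tow_mono (by omega)) hS.gamma_le_max) ?_
  have hlt : lcs G 1 < tow E k ⊔ lcs G 1 := lt_of_le_of_ne le_sup_right fun h =>
    hS.not_le_gamma (((hS.le_tow k).trans le_sup_left).trans h.ge)
  have h1 := Set.Finite.card_lt_card (Set.toFinite _) (SetLike.coe_ssubset_coe.2 hlt)
  obtain ⟨a, ha⟩ := IsPGroup.iff_card.1 (hS.pG.to_subgroup (tow E k ⊔ lcs G 1))
  simp only [SetLike.coe_sort_coe] at h1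
  rw [hS.card_gamma le_rfl (by omega), ha] at h1
  rw [hS.card_tow _ (by omega), ha]
  have := (Nat.pow_lt_pow_iff_right hp.out.one_lt).1 h1
  exact Nat.pow_le_pow_right hp.out.pos (by omega)

theorem card_bb {k : ℕ} (hk : k + 4 ≤ n) : Nat.card (bb E k) = p ^ (k + 2) := by
  haveI := lcs_normal (G := G) 1
  have h := CfsgLib.Solvable.card_sup_mul_card_inf (A := tow E k) (K := lcs G 1)
    (le_normalizer_of_normal)
  rw [hS.sup_gamma hk, hS.card_tow _ (by omega), hS.card_tow _ (by omega),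
    hS.card_gamma le_rfl (by omega)] at h
  refine Nat.eq_of_mul_eq_mul_left (pow_pos hp.out.pos (n - 4 + 3)) ?_
  rw [bb, h, ← pow_add, ← pow_add]
  congr 1
  omega

theorem card_bb_zero : Nat.card (bb E 0) = p ^ 2 := hS.card_bb (by have := hS.n5; omega)

omit hp in
theorem bb_mono {j k : ℕ} (h : j ≤ k) : bb E j ≤ bb E k := inf_le_inf_right _ (hS.tow_mono h)

omit hp in
theorem bb_zero_le : bb E 0 ≤ E := inf_le_left

theorem sec_bb {k : ℕ} (hk : k + 5 ≤ n) : Sec p (bb E (k + 1)) (bb E k) :=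
  sec_of_card hS.pG (hS.bb_mono k.le_succ) (by
    rw [hS.card_bb (by omega), hS.card_bb (by omega)]; ring)

theorem sec_top {k : ℕ} (hk : k + 4 ≤ n) : Sec p (tow E k) (bb E k) :=
  sec_of_card hS.pG inf_le_left (by
    rw [hS.card_tow k (by omega), hS.card_bb hk]; ring)

theorem tow_eq_sup {k : ℕ} (hk : k + 4 ≤ n) {e : G} (he : e ∈ E) (he' : e ∉ lcs G 1) :
    tow E k = zpowers e ⊔ bb E k := by
  refine le_antisymm (fun x hx => ?_) (sup_le (zpowers_le.2 (hS.le_tow k he)) inf_le_left)
  obtain ⟨i, hi⟩ := (hS.sec_top hk).exists_zpow (hS.le_tow k he) (fun h => he' h.2) hx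
  rw [show x = e ^ i * ((e ^ i)⁻¹ * x) by group]
  exact mul_mem (mem_sup_left (zpow_mem (mem_zpowers e) i)) (mem_sup_right hi)

theorem commute_E {x y : G} (hx : x ∈ E) (hy : y ∈ E) : x * y = y * x := hS.soft.comm x hx y hy

theorem cc_facts : Nat.card (cc E) = p ∧ cc E ≤ bb E 0 ∧
    tow E 1 ≤ centralizer (cc E : Set G) := by
  obtain ⟨h1, h2, h3, -⟩ := hS.soft.structure hS.pG (N := tow E 1) rfl
    (hS.tow_ne_top (k := 1) (by have := hS.n5; omega))
  exact ⟨h1, le_inf h2 (commutator_mono le_top le_top), h3⟩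

/-- `E ∩ G'` is central in the normalizer. -/
theorem bb_zero_central : tow E 1 ≤ centralizer (bb E 0 : Set G) := by
  have hn := hS.n5
  have hW : ∀ w ∈ lcs G (n - 3), ∀ g ∈ lcs G 1, g * w = w * g := fun w hw g hg =>
    hS.gamma_comm_bot (by omega) hg hw
  by_cases hWE : lcs G (n - 3) ≤ E
  · have he : lcs G (n - 3) = bb E 0 := by
      refine eq_of_le_of_card_ge (le_inf hWE ((⊤ : Subgroup G).lowerCentralSeries_antitone (by omega))) ?_
      rw [hS.card_bb_zero, hS.card_gamma (by omega) (by omega), show n - 1 - (n - 3) = 2 by omega]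
    rw [← he]
    refine (hS.tow_mono (show 1 ≤ n - 4 by omega)).trans ?_
    rw [← hS.sup_gamma (k := 0) (by omega)]
    exact sup_le (fun a ha => mem_centralizer_iff.2 fun w hw => hS.commute_E (hWE hw) ha)
      fun g hg => mem_centralizer_iff.2 fun w hw => (hW w hw g hg).symm
  · obtain ⟨x, hx, hxE⟩ := SetLike.not_le_iff_exists.1 hWE
    have hxN : x ∈ tow E 1 := mem_normalizer_of_map_le fun a ha => by
      have h1 : ⁅x, a⁆ ∈ E := hS.center_le (by
        rw [hS.center_eq, show n - 2 = n - 3 + 1 by omega]; exact comm_mem_succ _ hx a)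
      show x * a * x⁻¹ ∈ E
      simpa [commutatorElement_def, mul_assoc] using mul_mem h1 (show a ∈ E from ha)
    have hgen : E ⊔ zpowers x = tow E 1 := CfsgLib.Soft.eq_of_relIndex_prime
      (lt_of_le_of_ne le_sup_left fun h => hxE (h ▸ mem_sup_right (mem_zpowers x)))
      (sup_le le_normalizer (zpowers_le.2 hxN)) hS.soft.idx
    rw [← hgen]
    exact sup_le (fun a ha => mem_centralizer_iff.2 fun w hw => hS.commute_E (hS.bb_zero_le hw) ha)
      (zpowers_le.2 (mem_centralizer_iff.2 fun w hw => hW x hx w hw.2))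

theorem eq_sup_zero {e : G} (he : e ∈ E) (he' : e ∉ lcs G 1) : E = zpowers e ⊔ bb E 0 :=
  hS.tow_eq_sup (k := 0) (by have := hS.n5; omega) he he'

/-- The centralizer of an element of `E` outside `G'` is `E`. -/
theorem mem_of_commute {e : G} (he : e ∈ E) (he' : e ∉ lcs G 1) {g : G} (h : g * e = e * g) :
    g ∈ E := by
  by_contra hg
  have hle : E ≤ centralizer ({e} : Set G) := fun a ha => mem_centralizer_singleton_iff.2
    (hS.commute_E ha he)
  have hN := CfsgLib.Soft.normalizer_le_of_lt hS.pG hS.soft.idx (lt_of_le_of_ne hle fun hh =>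
    hg (hh ▸ mem_centralizer_singleton_iff.2 h))
  have hcen : tow E 1 ≤ centralizer (E : Set G) := by
    intro y hy
    have hee : zpowers e ⊔ bb E 0 ≤ centralizer ({y} : Set G) :=
      sup_le (zpowers_le.2 (mem_centralizer_singleton_iff.2
        (mem_centralizer_singleton_iff.1 (hN hy)).symm)) fun w hw =>
        mem_centralizer_singleton_iff.2 (mem_centralizer_iff.1 (hS.bb_zero_central hy) w hw)
    rw [← hS.eq_sup_zero he he'] at hee
    exact mem_centralizer_iff.2 fun a ha => mem_centralizer_singleton_iff.1 (hee ha)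
  have := Subgroup.card_le_of_le (hcen.trans hS.soft.cent)
  rw [hS.card_tow 1 (by have := hS.n5; omega), hS.cardE] at this
  exact absurd ((Nat.pow_le_pow_iff_right hp.out.one_lt).1 this) (by norm_num)

theorem mem_bb_zero {e : G} (he : e ∈ E) (he' : e ∉ lcs G 1) {g : G} (h : g * e = e * g)
    (hg : g ∈ lcs G 1) : g ∈ bb E 0 := ⟨hS.mem_of_commute he he' h, hg⟩

omit hS hp [Finite G] in
theorem comm_eq_imp {e a b : G} (h : ⁅a, e⁆ = ⁅b, e⁆) : a⁻¹ * b * e = e * (a⁻¹ * b) := by
  have h1 : a * e * a⁻¹ = b * e * b⁻¹ := by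
    simpa [commutatorElement_def] using congrArg (· * e) h
  calc a⁻¹ * b * e = a⁻¹ * (b * e * b⁻¹) * b := by group
    _ = a⁻¹ * (a * e * a⁻¹) * b := by rw [h1]
    _ = e * (a⁻¹ * b) := by group

/-- An element whose commutator with `e` lies in `E ∩ G'`. -/
theorem comm_mem_cc {e : G} (he : e ∈ E) (he' : e ∉ lcs G 1) {b : G}
    (hb : b ∈ normalizer (bb E 0 : Set G)) (h : ⁅b, e⁆ ∈ bb E 0) :
    b ∈ tow E 1 ∧ ⁅b, e⁆ ∈ cc E := by
  have hbN : b ∈ tow E 1 := by
    refine mem_normalizer_of_map_le fun a ha => ?_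
    have hle : zpowers e ⊔ bb E 0 ≤ E.comap (MulAut.conj b).toMonoidHom := by
      refine sup_le (zpowers_le.2 ?_) fun w hw => hS.bb_zero_le ((mem_normalizer_iff.1 hb w).1 hw)
      show b * e * b⁻¹ ∈ E
      simpa [commutatorElement_def, mul_assoc] using mul_mem (hS.bb_zero_le h) he
    rw [← hS.eq_sup_zero he he'] at hle
    exact hle ha
  exact ⟨hbN, commutator_mem_commutator hbN (hS.le_tow 1 he)⟩

/-- The commutators with `e` of an overgroup of `E ∩ G'`, together with a complement. -/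
theorem card_commutators {e : G} (he : e ∈ E) (he' : e ∉ lcs G 1) {X R : Subgroup G}
    (hX : X ≤ lcs G 1) (hR : ∀ b ∈ X, ⁅b, e⁆ ∈ R) :
    Nat.card X ≤ p ^ 2 * Nat.card R := by
  classical
  let f : X → R := fun b => ⟨_, hR b b.2⟩
  let r : Set.range f → X := fun z => z.2.choose
  have hr : ∀ z, f (r z) = z := fun z => z.2.choose_spec
  let ψ : X → Set.range f × ↥(bb E 0) := fun b =>
    (⟨f b, b, rfl⟩, ⟨((r ⟨f b, b, rfl⟩ : X) : G)⁻¹ * b, hS.mem_bb_zero he he'
      (comm_eq_imp (congrArg Subtype.val (hr ⟨f b, b, rfl⟩)))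
      (mul_mem (inv_mem (hX (SetLike.coe_mem _))) (hX b.2))⟩)
  have hψ : Function.Injective ψ := fun b b' h => by
    have h1 := congrArg Prod.fst h
    have h3 : ((r (ψ b).1 : X) : G)⁻¹ * b = ((r (ψ b').1 : X) : G)⁻¹ * b' :=
      congrArg Subtype.val (congrArg Prod.snd h)
    rw [h1] at h3
    exact Subtype.ext (mul_left_cancel h3)
  have h3 := Nat.card_le_card_of_injective ψ hψ
  rw [Nat.card_prod, hS.card_bb_zero] at h3
  refine h3.trans ?_
  rw [mul_comm]
  refine Nat.mul_le_mul_left _ ?_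
  exact Nat.card_le_card_of_injective _ Subtype.val_injective

/-- The next level is generated by commutators. -/
theorem bb_eq_sup {j i : ℕ} (hji : j + 1 ≤ i) (hi : i + 4 ≤ n)
    (hcen : tow E i ≤ centralizer (bb E 0 : Set G))
    (hnor : ∀ l, l ≤ i → tow E i ≤ normalizer (bb E l : Set G)) :
    bb E j = bb E 0 ⊔ ⁅bb E (j + 1), tow E i⁆ := by
  obtain ⟨e, he, he'⟩ := hS.exists_e
  set R := bb E 0 ⊔ ⁅bb E (j + 1), tow E i⁆ with hR
  have hs := hS.sec_bb (k := j) (by omega)
  have hle : R ≤ bb E j := by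
    refine sup_le (hS.bb_mono (Nat.zero_le j)) (commutator_le.2 fun b hb g hg => ?_)
    rw [← inv_mem_iff, commutatorElement_inv]
    exact comm_mem_sec hS.pG hs (hnor (j + 1) hji hg) (hnor j (by omega) hg) hb
  obtain ⟨w, hw, hwc⟩ : ∃ w ∈ bb E 0, w ∉ cc E := by
    refine SetLike.not_le_iff_exists.1 fun h => ?_
    have := card_le_of_le h
    rw [hS.card_bb_zero, hS.cc_facts.1] at this
    nlinarith [hp.out.one_lt]
  symm
  refine eq_of_le_of_card_ge hle ?_
  -- `R` contains the commutators and `w`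
  let f : ↥(bb E (j + 1)) → R := fun b => ⟨_, mem_sup_right
    (commutator_mem_commutator b.2 (hS.le_tow i he))⟩
  have hw' : (⟨w, mem_sup_left hw⟩ : R) ∉ Set.range f := by
    rintro ⟨b, hb⟩
    have hbw : ⁅(b : G), e⁆ = w := congrArg Subtype.val hb
    refine hwc (hbw ▸ (hS.comm_mem_cc he he' ?_ (hbw ▸ hw)).2)
    exact centralizer_le_normalizer _ (hcen (hS.tow_mono hji (inf_le_left (b := lcs G 1) b.2)))
  classical
  let r : Set.range f → ↥(bb E (j + 1)) := fun z => z.2.choose
  have hr : ∀ z, f (r z) = z := fun z => z.2.choose_spec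
  let ψ : ↥(bb E (j + 1)) → Set.range f × ↥(bb E 0) := fun b =>
    (⟨f b, b, rfl⟩, ⟨((r ⟨f b, b, rfl⟩ : ↥(bb E (j + 1))) : G)⁻¹ * b, hS.mem_bb_zero he he'
      (comm_eq_imp (congrArg Subtype.val (hr ⟨f b, b, rfl⟩)))
      (mul_mem (inv_mem (inf_le_right (a := tow E (j + 1)) (SetLike.coe_mem _))) b.2.2)⟩)
  have hψ : Function.Injective ψ := fun b b' h => by
    have h1 := congrArg Prod.fst h
    have h3 : ((r (ψ b).1 : ↥(bb E (j + 1))) : G)⁻¹ * b =
        ((r (ψ b').1 : ↥(bb E (j + 1))) : G)⁻¹ * b' :=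
      congrArg Subtype.val (congrArg Prod.snd h)
    rw [h1] at h3
    exact Subtype.ext (mul_left_cancel h3)
  have h3 := Nat.card_le_card_of_injective ψ hψ
  rw [Nat.card_prod, hS.card_bb_zero, hS.card_bb (by omega),
    show j + 1 + 2 = j + 1 + 2 from rfl, pow_add p (j + 1) 2] at h3
  have h4 : Nat.card (Set.range f) < Nat.card R := by
    rw [← Nat.card_univ (α := R)]
    exact Set.Finite.card_lt_card (Set.toFinite _) (Set.ssubset_univ_iff.2 fun h =>
      hw' (h ▸ Set.mem_univ _))
  have h5 : p ^ (j + 1) < Nat.card R :=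
    lt_of_le_of_lt (Nat.le_of_mul_le_mul_right h3 (pow_pos hp.out.pos 2)) h4
  obtain ⟨a, ha⟩ := IsPGroup.iff_card.1 (hS.pG.to_subgroup R)
  rw [ha] at h5 ⊢
  rw [hS.card_bb (by omega)]
  have := (Nat.pow_lt_pow_iff_right hp.out.one_lt).1 h5
  exact Nat.pow_le_pow_right hp.out.pos (by omega)

/-- The terms of the flag are normalized by the next normalizer. -/
theorem normalizes : ∀ i, i + 4 ≤ n → (∀ k, k ≤ i → tow E k ≤ centralizer (bb E 0 : Set G)) →
    ∀ j, j ≤ i → tow E (i + 1) ≤ normalizer (bb E j : Set G) := by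
  intro i
  induction i with
  | zero =>
    intro _ _ j hj
    obtain rfl : j = 0 := by omega
    exact hS.bb_zero_central.trans (centralizer_le_normalizer _)
  | succ i ih =>
    intro hi hcen
    have hnor : ∀ l, l ≤ i + 1 → tow E (i + 1) ≤ normalizer (bb E l : Set G) := by
      intro l hl
      rcases Nat.lt_or_ge l (i + 1) with h | h
      · exact ih (by omega) (fun k hk => hcen k (by omega)) l (by omega)
      · obtain rfl : l = i + 1 := by omega
        intro g hg
        exact mem_normalizer_of_map_le fun x hx => mem_inf.2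
          ⟨mul_mem (mul_mem hg (mem_inf.1 hx).1) (inv_mem hg),
            (lcs_normal 1).conj_mem x (mem_inf.1 hx).2 g⟩
    intro j hj g hg
    have hgN : ∀ x ∈ tow E (i + 1), g * x * g⁻¹ ∈ tow E (i + 1) := fun x hx =>
      (mem_normalizer_iff.1 hg x).1 hx
    have h0 : ∀ x ∈ bb E 0, g * x * g⁻¹ ∈ bb E 0 := by
      intro w hw
      have hcg : ∀ y ∈ tow E (i + 1), (g * w * g⁻¹) * y = y * (g * w * g⁻¹) := by
        intro y hy
        have hy' : g⁻¹ * y * g ∈ tow E (i + 1) := (mem_normalizer_iff''.1 hg y).1 hy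
        have h1 := mem_centralizer_iff.1 (hcen (i + 1) le_rfl hy') w hw
        calc g * w * g⁻¹ * y = g * (w * (g⁻¹ * y * g)) * g⁻¹ := by group
          _ = g * ((g⁻¹ * y * g) * w) * g⁻¹ := by rw [h1]
          _ = y * (g * w * g⁻¹) := by group
      obtain ⟨e, he, he'⟩ := hS.exists_e
      exact hS.mem_bb_zero he he' (hcg e (hS.le_tow _ he)) ((lcs_normal 1).conj_mem w hw.2 g)
    have key : ∀ d, d ≤ i + 1 → g ∈ normalizer (bb E (i + 1 - d) : Set G) := by
      intro d
      induction d with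
      | zero =>
        intro _
        exact mem_normalizer_of_map_le fun x hx => ⟨hgN x hx.1, (lcs_normal 1).conj_mem x hx.2 g⟩
      | succ d ihd =>
        intro hd
        have h1 := ihd (by omega)
        rw [show i + 1 - d = i + 1 - (d + 1) + 1 by omega] at h1
        refine mem_normalizer_of_map_le fun x hx => ?_
        rw [hS.bb_eq_sup (i := i + 1) (by omega) hi (hcen (i + 1) le_rfl) hnor] at hx ⊢
        have hle : bb E 0 ⊔ ⁅bb E (i + 1 - (d + 1) + 1), tow E (i + 1)⁆ ≤
            (bb E 0 ⊔ ⁅bb E (i + 1 - (d + 1) + 1), tow E (i + 1)⁆).comap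
              (MulAut.conj g).toMonoidHom := by
          refine sup_le (fun w hw => mem_sup_left (h0 w hw)) (commutator_le.2 fun a ha b hb => ?_)
          rw [mem_comap, MulEquiv.coe_toMonoidHom, MulAut.conj_apply]
          rw [show g * ⁅a, b⁆ * g⁻¹ = ⁅g * a * g⁻¹, g * b * g⁻¹⁆ by
            simp only [commutatorElement_def]; group]
          exact mem_sup_right (commutator_mem_commutator ((mem_normalizer_iff.1 h1 a).1 ha)
            (hgN b hb))
        exact hle hx
    have := key (i + 1 - j) (by omega)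
    rwa [show i + 1 - (i + 1 - j) = j by omega] at this

end Setup

end CfsgLib.MaxClassEss
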