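import Cfsg.Agent.MaxClassEss.Flag
import Cfsg.Agent.MaxClassEss.Frame

/-!
Extending an automorphism with prescribed weights along the normalizer tower.
-/

set_option autoImplicit false
set_option linter.unusedSectionVars false
set_option maxHeartbeats 1000000

open Subgroup
open scoped commutatorElement

namespace CfsgLib.MaxClassEss

open CfsgLib.FGSA.MaxClass

universe u

variable {G : Type u} [Group G]

/-- Conjugation by an element of the normalizer. -/
def cj (N : Subgroup G) (g : G) (hg : g ∈ normalizer (N : Set G)) : MulAut N :=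
  N.normalizerMonoidHom ⟨g, hg⟩

theorem cj_apply {N : Subgroup G} {g : G} (hg : g ∈ normalizer (N : Set G)) (x : N) :
    (cj N g hg x : G) = g * x * g⁻¹ := rfl

/-- The automizers of the overgroups of `E`. -/
structure IsSys (p : ℕ) (E : Subgroup G) (A : ∀ N : Subgroup G, Subgroup (MulAut N)) : Prop where
  cj_mem : ∀ N, E ≤ N → ∀ g hg, cj N g hg ∈ A N
  syl : ∀ N, E ≤ N → ∀ R : Subgroup (MulAut N), R ≤ A N → IsPGroup p R →
    (∀ g hg, cj N g hg ∈ R) → ∀ α ∈ R, ∃ g hg, α = cj N g hg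
  ext : ∀ N, E ≤ N → ∀ α ∈ A N, (∀ g hg, ∃ h hh, α * cj N g hg * α⁻¹ = cj N h hh) →
    ∃ β ∈ A (normalizer (N : Set G)), ∀ x : N, (β ⟨x, le_normalizer x.2⟩ : G) = α x

/-- The flag of a term of the tower. -/
def fl (E : Subgroup G) (i : ℕ) : ℕ → Subgroup G
  | 0 => ⊥
  | 1 => cc E
  | k + 2 => if k ≤ i then bb E k else tow E i

/-- The weights on the flag. -/
def wt (L μ : ℤ) (i : ℕ) : ℕ → ℤ
  | 0 => L
  | 1 => 1
  | k + 2 => if k < i then L ^ (k + 2) else μ

/-- A torus element with the prescribed weights. -/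
def St (A : ∀ N : Subgroup G, Subgroup (MulAut N)) (E : Subgroup G) (L μ : ℤ) (i : ℕ) : Prop :=
  ∃ δ ∈ A (tow E i), ∀ k < i + 3, Scal δ (fl E i (k + 1)) (fl E i k) (wt L μ i k)

variable [Finite G] {p n : ℕ} [hp : Fact p.Prime] {E : Subgroup G}

theorem scal_restrict {N N' H K : Subgroup G} (hNN : N ≤ N') (hHN : H ≤ N) {α : MulAut N}
    {β : MulAut N'} (h : ∀ x : N, (β ⟨x, hNN x.2⟩ : G) = α x) {a : ℤ} (ha : Scal α H K a) :
    Scal β H K a := fun x hx => by
  have h1 := ha ⟨x, hHN hx⟩ hx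
  rwa [← h] at h1

theorem scal_cj (hG : IsPGroup p G) {N H K : Subgroup G} (s : Sec p H K) (hHN : H ≤ N) {g : G}
    (hg : g ∈ normalizer (N : Set G)) (hH : g ∈ normalizer (H : Set G))
    (hK : g ∈ normalizer (K : Set G)) : Scal (cj N g hg) H K 1 := by
  obtain ⟨k, hk⟩ := hG g
  refine scal_of_pow s hHN (fun x hx => (mem_normalizer_iff.1 hH _).1 hx)
    (fun x hx => (mem_normalizer_iff.1 hK _).1 hx) (k := k) ?_
  rw [cj, ← map_pow, show (⟨g, hg⟩ : normalizer (N : Set G)) ^ p ^ k = 1 from Subtype.ext hk, map_one]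

/-- The additive coordinate of a section. -/
theorem toAdd_zpow_coord {H : Subgroup G} (φ : H →* Multiplicative (ZMod p)) (x : H) (a : ℤ) :
    Multiplicative.toAdd (φ (x ^ a)) = (a : ZMod p) * Multiplicative.toAdd (φ x) := by
  rw [map_zpow, toAdd_zpow, zsmul_eq_mul]

variable {A : ∀ N : Subgroup G, Subgroup (MulAut N)} {L μ : ℤ}

namespace Setup

variable (hS : Setup p n E)
include hS

theorem fl_isFlag {i : ℕ} (hi : i + 4 ≤ n) : IsFlag p (fl E i) (i + 3) (tow E i) := by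
  refine ⟨rfl, by simp [fl], fun k hk => ?_⟩
  rcases k with _ | _ | k
  · exact sec_of_card hS.pG bot_le (by simp [fl, hS.cc_facts.1])
  · exact sec_of_card hS.pG (by simpa [fl] using hS.cc_facts.2.1)
      (by simp [fl, hS.cc_facts.1, hS.card_bb_zero, sq])
  · rcases Nat.lt_or_ge k i with h | h
    · simpa [fl, h.le, Nat.succ_le_of_lt h] using hS.sec_bb (k := k) (by omega)
    · obtain rfl : k = i := by omega
      simpa [fl] using hS.sec_top hi

omit hp in
theorem fl_normal {i : ℕ} {g : G} (hN : g ∈ normalizer (tow E i : Set G))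
    (hcc : g ∈ normalizer (cc E : Set G))
    (hbb : ∀ j ≤ i, g ∈ normalizer (bb E j : Set G)) : ∀ k, g ∈ normalizer (fl E i k : Set G) := by
  intro k
  rcases k with _ | _ | k
  · exact mem_normalizer_of_map_le fun x hx => by
      rw [show fl E i 0 = ⊥ from rfl, mem_bot] at hx ⊢
      rw [hx]; group
  · exact hcc
  · by_cases h : k ≤ i
    · simpa [fl, h] using hbb k h
    · simpa [fl, h] using hN

/-- The weight modulo `p` of the new layer. -/
theorem extend (hA : IsSys p E A) (hμ : (p : ℤ) ∣ L * μ - 1) {i : ℕ} (hi : i + 4 ≤ n)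
    (hcen : ∀ k, k ≤ i → tow E k ≤ centralizer (bb E 0 : Set G))
    (hc : tow E (i + 1) ≤ normalizer (cc E : Set G)) (hst : St A E L μ i) :
    ∃ δ ∈ A (tow E (i + 1)), (∀ k < i + 3, Scal δ (fl E i (k + 1)) (fl E i k) (wt L μ i k)) ∧
      Scal δ (tow E (i + 1)) (tow E i) (L ^ (i + 2)) := by
  obtain ⟨δ, hδ, hw⟩ := hst
  have hfl := hS.fl_isFlag hi
  have hnor := hS.normalizes i hi hcen
  have hnorm : ∀ g ∈ normalizer (tow E i : Set G), ∀ k, g ∈ normalizer (fl E i k : Set G) :=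
    fun g hg => hS.fl_normal hg (hc hg) fun j hj => hnor j hj hg
  set R := flagKernel hfl (A (tow E i))
  have hcjR : ∀ g hg, cj (tow E i) g hg ∈ R := fun g hg => mem_flagKernel.2
    ⟨hA.cj_mem _ (hS.le_tow i) g hg, fun k hk => scal_cj hS.pG (hfl.sec k hk)
      (hfl.le (by omega)) hg (hnorm g hg _) (hnorm g hg _)⟩
  have hext : ∃ β ∈ A (tow E (i + 1)), ∀ x : tow E i,
      (β ⟨x, le_normalizer x.2⟩ : G) = δ x := hA.ext _ (hS.le_tow i) δ hδ fun g hg => by
    refine hA.syl _ (hS.le_tow i) R (fun x hx => (mem_flagKernel.1 hx).1)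
      (flagKernel_isPGroup hS.pG hfl _) hcjR _ (mem_flagKernel.2
        ⟨mul_mem (mul_mem hδ (hA.cj_mem _ (hS.le_tow i) g hg)) (inv_mem hδ), fun k hk => ?_⟩)
    exact scal_conj (hfl.le (by omega)) (fun x hx => hfl.mem_of_scal hw (by omega) hx)
      (fun x hx => hfl.mem_of_scal hw (by omega) hx) ((mem_flagKernel.1 (hcjR g hg)).2 k hk)
  obtain ⟨β, hβ, hβe⟩ := hext
  have hw' : ∀ k < i + 3, Scal β (fl E i (k + 1)) (fl E i k) (wt L μ i k) := fun k hk =>
    scal_restrict le_normalizer (hfl.le (by omega)) hβe (hw k hk)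
  refine ⟨β, hβ, hw', ?_⟩
  -- the new weight
  have hsN : Sec p (tow E (i + 1)) (tow E i) := sec_of_card hS.pG le_normalizer (by
    rw [hS.card_tow _ (by omega), hS.card_tow _ (by omega)]; ring)
  obtain ⟨y, hy, hy'⟩ : ∃ y ∈ tow E (i + 1), y ∉ tow E i := by
    refine SetLike.not_le_iff_exists.1 fun h => ?_
    have := card_le_of_le h
    rw [hS.card_tow _ (by omega), hS.card_tow _ (by omega)] at this
    exact absurd ((Nat.pow_le_pow_iff_right hp.out.one_lt).1 this) (by omega)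
  obtain ⟨a, ha⟩ := hsN.exists_zpow hy hy' (β ⟨y, hy⟩).2
  have hK : ∀ x : tow E (i + 1), (x : G) ∈ tow E i → (β x : G) ∈ tow E i := fun x hx => by
    have := hβe ⟨x, hx⟩
    rw [this]
    exact (δ ⟨x, hx⟩).2
  refine (scal_of_point hsN le_rfl hK hy hy' ha).congr hsN ?_
  obtain ⟨e, he, he'⟩ := hS.exists_e
  have heT : e ∈ tow E (i + 1) := hS.le_tow _ he
  have heb : ∀ j, e ∉ bb E j := fun j h => he' h.2
  obtain ⟨r, hr⟩ := (hS.sec_top hi).exists_zpow (hS.le_tow i he) (heb i) ha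
  set Y : tow E (i + 1) := ⟨y, hy⟩
  set ee : tow E (i + 1) := ⟨e, heT⟩
  set u : tow E (i + 1) := (ee ^ r)⁻¹ * ((Y ^ a)⁻¹ * β Y) with hu
  set u' : tow E (i + 1) := (ee ^ μ)⁻¹ * β ee with hu'
  have htop : Scal β (tow E i) (bb E i) μ := by
    have := hw' (i + 2) (by omega)
    simpa [fl, wt] using this
  have huC : (u : G) ∈ bb E i := by simpa [hu, Y, ee] using hr
  have hu'C : (u' : G) ∈ bb E i := by simpa [hu', ee] using htop ee (hS.le_tow i he)
  have hβy : β Y = Y ^ a * ee ^ r * u := by rw [hu]; group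
  have hβe' : β ee = ee ^ μ * u' := by rw [hu']; group
  have key : (p : ℤ) ∣ a * μ - L ^ (i + 1) := by
    rcases i with _ | j
    · haveI : ((⊥ : Subgroup G).subgroupOf (tow E 1)).Normal := by
        rw [bot_subgroupOf]; infer_instance
      have hcc := hS.cc_facts
      refine pairing (N := tow E 1) (H := cc E) (K := ⊥) (C := bb E 0) (δ := β) (y := Y) (e := ee)
        (r := r) (u := u) (u' := u') (sec_of_card hS.pG bot_le (by simp [hcc.1]))
        (hcc.2.1.trans (hS.bb_zero_le.trans (hS.le_tow 1))) (fun g hg h hh => ?_)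
        (fun g hg h hh => ?_) (commutator_mem_commutator hy heT) (fun hm => hy' ?_) huC hu'C hβy hβe' ?_
      · exact mem_bot.2 (commutatorElement_eq_one_iff_mul_comm.2
          (mem_centralizer_iff.1 (hcc.2.2 hg) h hh).symm)
      · exact mem_bot.2 (commutatorElement_eq_one_iff_mul_comm.2
          (mem_centralizer_iff.1 (hS.bb_zero_central hg) h hh).symm)
      · exact hS.mem_of_commute he he' (commutatorElement_eq_one_iff_mul_comm.1 (mem_bot.1 hm))
      · simpa [fl, wt] using hw' 0 (by omega)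
    · have hn1 : ∀ l, l ≤ j + 1 → tow E (j + 2) ≤ normalizer (bb E l : Set G) := hnor
      haveI : ((bb E j).subgroupOf (tow E (j + 2))).Normal :=
        (normal_subgroupOf_iff_le_normalizer ((inf_le_left : bb E j ≤ tow E j).trans
          (hS.tow_mono (by omega)))).2 (hn1 j (by omega))
      have hsb := hS.sec_bb (k := j) (by omega)
      have hcen' : ∀ g ∈ tow E (j + 2), ∀ h ∈ bb E (j + 1), ⁅g, h⁆ ∈ bb E j := fun g hg h hh =>
        comm_mem_sec hS.pG hsb (hn1 _ le_rfl hg) (hn1 _ (by omega) hg) hh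
      have hye : ⁅y, e⁆ ∈ bb E (j + 1) := by
        refine ⟨?_, commutator_mem_commutator (mem_top y) (mem_top e)⟩
        show y * e * y⁻¹ * e⁻¹ ∈ tow E (j + 1)
        exact mul_mem ((mem_normalizer_iff.1 hy e).1 (hS.le_tow _ he))
          (inv_mem (hS.le_tow _ he))
      refine pairing (N := tow E (j + 2)) (H := bb E (j + 1)) (K := bb E j) (C := bb E (j + 1))
        (δ := β) (y := Y) (e := ee) (r := r) (u := u) (u' := u') hsb
        ((inf_le_left : bb E (j + 1) ≤ tow E (j + 1)).trans le_normalizer) hcen' hcen' hye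
        (fun hm => hy' ?_) huC hu'C hβy hβe' ?_
      · -- `y` would normalize the previous term
        refine mem_normalizer_of_map_le fun x hx => ?_
        have hle : zpowers e ⊔ bb E j ≤ (tow E j).comap (MulAut.conj y).toMonoidHom := by
          refine sup_le (zpowers_le.2 ?_) fun w hw => ?_
          · show y * e * y⁻¹ ∈ tow E j
            have := mul_mem (inf_le_left (b := lcs G 1) hm : ⁅y, e⁆ ∈ tow E j) (hS.le_tow j he)
            simpa [commutatorElement_def, mul_assoc] using this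
          · show y * w * y⁻¹ ∈ tow E j
            exact (mem_inf.1 ((mem_normalizer_iff.1 (hn1 j (by omega) hy) w).1 hw)).1
        rw [← hS.tow_eq_sup (by omega) he he'] at hle
        exact hle hx
      · simpa [fl, wt] using hw' (j + 2) (by omega)
  rw [← ZMod.intCast_zmod_eq_zero_iff_dvd] at key hμ ⊢
  push_cast at key hμ ⊢
  linear_combination (L : ZMod p) * key - (a : ZMod p) * hμ

/-- The next term centralizes `E ∩ G'`. -/
theorem cent_step (hμ : (p : ℤ) ∣ L * μ - 1) {i : ℕ} (hi : i + 4 ≤ n)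
    (hL : ¬ (p : ℤ) ∣ L ^ (i + 1) - 1)
    (hcen : ∀ k, k ≤ i → tow E k ≤ centralizer (bb E 0 : Set G))
    (hc : tow E (i + 1) ≤ centralizer (cc E : Set G)) {δ : MulAut (tow E (i + 1))}
    (hw : ∀ k < i + 3, Scal δ (fl E i (k + 1)) (fl E i k) (wt L μ i k))
    (ha : Scal δ (tow E (i + 1)) (tow E i) (L ^ (i + 2))) :
    tow E (i + 1) ≤ centralizer (bb E 0 : Set G) := by
  intro y hy
  refine mem_centralizer_iff.2 fun w hw0 => ?_
  by_contra hne
  have hnor := hS.normalizes i hi hcen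
  have hyN : y ∈ normalizer (bb E 0 : Set G) := hnor 0 (Nat.zero_le i) hy
  have hcc := hS.cc_facts
  have hsec : Sec p (bb E 0) (cc E) :=
    sec_of_card hS.pG hcc.2.1 (by rw [hcc.1, hS.card_bb_zero, sq])
  set z := ⁅y, w⁆ with hz
  have hzc : z ∈ cc E := comm_mem_sec hS.pG hsec hyN (centralizer_le_normalizer _ (hc hy)) hw0
  have hz1 : z ≠ 1 := fun h => hne (commutatorElement_eq_one_iff_mul_comm.1 h).symm
  have h0T : bb E 0 ≤ tow E (i + 1) := hS.bb_zero_le.trans (hS.le_tow _)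
  set Y : tow E (i + 1) := ⟨y, hy⟩
  set W : tow E (i + 1) := ⟨w, h0T hw0⟩
  set m : tow E (i + 1) := (Y ^ (L ^ (i + 2)))⁻¹ * δ Y with hm
  set c : tow E (i + 1) := W⁻¹ * δ W with hc'
  have hmT : (m : G) ∈ tow E i := by simpa [hm, Y] using ha Y hy
  have hcC : (c : G) ∈ cc E := by
    simpa [hc', W, fl, wt] using hw 1 (by omega) W (by simpa [fl] using hw0)
  have hcom : ∀ (q : tow E (i + 1)), ∀ v : tow E (i + 1), (v : G) ∈ cc E → q * v = v * q :=
    fun q v hv => Subtype.ext (mem_centralizer_iff.1 (hc q.2) v hv).symm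
  have hmW : m * (W * c) = W * c * m := Subtype.ext
    (mem_centralizer_iff.1 (hcen i le_rfl hmT) _ (mul_mem hw0 (hcc.2.1 hcC))).symm
  have hZc : ((⁅Y, W⁆ : tow E (i + 1)) : G) ∈ cc E := by
    simpa [commutatorElement_def, Y, W, hz] using hzc
  have h1 : δ ⁅Y, W⁆ = ⁅Y, W⁆ ^ (L ^ (i + 2)) := by
    rw [map_commutatorElement, show δ Y = Y ^ (L ^ (i + 2)) * m by rw [hm]; group,
      show δ W = W * c by rw [hc']; group]
    have e1 : ⁅Y ^ (L ^ (i + 2)) * m, W * c⁆ = ⁅Y ^ (L ^ (i + 2)), W⁆ := by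
      simp only [commutatorElement_def]
      calc Y ^ (L ^ (i + 2)) * m * (W * c) * (Y ^ (L ^ (i + 2)) * m)⁻¹ * (W * c)⁻¹
          = Y ^ (L ^ (i + 2)) * (m * (W * c)) * m⁻¹ * (Y ^ (L ^ (i + 2)))⁻¹ * (c⁻¹ * W⁻¹) := by group
        _ = Y ^ (L ^ (i + 2)) * W * (c * (Y ^ (L ^ (i + 2)))⁻¹) * c⁻¹ * W⁻¹ := by rw [hmW]; group
        _ = _ := by rw [← hcom _ c hcC]; group
    rw [e1]
    have := comm_zpow_zpow (fun q => hcom q _ hZc) rfl (x := Y) (y := W) (L ^ (i + 2)) 1
    simpa using this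
  have h2 : δ ⁅Y, W⁆ = ⁅Y, W⁆ ^ L := by
    have := hw 0 (by omega) ⁅Y, W⁆ (by simpa [fl] using hZc)
    simp only [fl, wt, mem_bot, inv_mul_eq_one] at this
    exact Subtype.ext (by simpa using this.symm)
  refine hL ?_
  have h3 := (sec_of_card (p := p) hS.pG (bot_le : (⊥ : Subgroup G) ≤ cc E) (by simp [hcc.1])).dvd_of_zpow_mem
    hzc (by simpa using hz1) (i := L ^ (i + 2) - L) (by
      rw [mem_bot]
      have h4 : ((⁅Y, W⁆ ^ (L ^ (i + 2) - L) : tow E (i + 1)) : G) = 1 := by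
        rw [zpow_sub, ← h1, ← h2, mul_inv_cancel]; rfl
      simpa [commutatorElement_def, Y, W, hz] using h4)
  rw [← ZMod.intCast_zmod_eq_zero_iff_dvd] at h3 hμ ⊢
  push_cast at h3 hμ ⊢
  linear_combination (μ : ZMod p) * h3 - ((L : ZMod p) ^ (i + 1) - 1) * hμ

/-- Restoring the invariant hyperplane. -/
theorem adjust (hA : IsSys p E A) (hμ : (p : ℤ) ∣ L * μ - 1) {i : ℕ} (hi : i + 5 ≤ n)
    (hcen : ∀ k, k ≤ i + 1 → tow E k ≤ centralizer (bb E 0 : Set G))
    (hc : tow E (i + 2) ≤ normalizer (cc E : Set G)) {δ : MulAut (tow E (i + 1))}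
    (hδ : δ ∈ A (tow E (i + 1)))
    (hw : ∀ k < i + 3, Scal δ (fl E i (k + 1)) (fl E i k) (wt L μ i k))
    (ha : Scal δ (tow E (i + 1)) (tow E i) (L ^ (i + 2))) : St A E L μ (i + 1) := by
  classical
  have hF := hS.fl_isFlag (i := i) (by omega)
  have hF' := hS.fl_isFlag (i := i + 1) (by omega)
  have hsP : Sec p (tow E (i + 1)) (tow E i) := sec_of_card hS.pG le_normalizer (by
    rw [hS.card_tow _ (by omega), hS.card_tow _ (by omega)]; ring)
  have hsB := hS.sec_top (k := i + 1) (by omega)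
  have hKP : bb E i ≤ tow E i := inf_le_left
  have hBK := hS.bb_mono (E := E) (Nat.le_succ i)
  obtain ⟨e, he, he'⟩ := hS.exists_e
  have heP := hS.le_tow i he
  have heH := hS.le_tow (i + 1) he
  obtain ⟨y, hy, hyK⟩ : ∃ y ∈ bb E (i + 1), y ∉ bb E i := by
    refine SetLike.not_le_iff_exists.1 fun h => ?_
    have := card_le_of_le h
    rw [hS.card_bb (by omega), hS.card_bb (by omega)] at this
    exact absurd ((Nat.pow_le_pow_iff_right hp.out.one_lt).1 this) (by omega)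
  have hyP : y ∉ tow E i := fun h => hyK ⟨h, hy.2⟩
  obtain ⟨φ₁, hφ₁y, hφ₁⟩ := exists_coord hsP hy.1 hyP
  obtain ⟨φ₂, hφ₂e, hφ₂⟩ := exists_coord hsB heH (fun h => he' h.2)
  let c₁ : tow E (i + 1) → ZMod p := fun x => Multiplicative.toAdd (φ₁ x)
  let c₂ : tow E (i + 1) → ZMod p := fun x => Multiplicative.toAdd (φ₂ x)
  set Y : tow E (i + 1) := ⟨y, hy.1⟩
  set ee : tow E (i + 1) := ⟨e, heH⟩
  have hcY : c₁ Y = 1 ∧ c₂ Y = 0 := ⟨by simp [c₁, Y, hφ₁y], by
    show Multiplicative.toAdd (φ₂ Y) = 0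
    rw [(hφ₂ Y).2 hy]; rfl⟩
  have hce : c₁ ee = 0 ∧ c₂ ee = 1 := ⟨by
    show Multiplicative.toAdd (φ₁ ee) = 0
    rw [(hφ₁ ee).2 heP]; rfl, by simp [c₂, ee, hφ₂e]⟩
  have hzero : ∀ x : tow E (i + 1), c₁ x = 0 → c₂ x = 0 → (x : G) ∈ bb E i := fun x h1 h2 =>
    ⟨(hφ₁ x).1 (toAdd_eq_zero.1 h1), ((hφ₂ x).1 (toAdd_eq_zero.1 h2)).2⟩
  have hzero' : ∀ x : tow E (i + 1), (x : G) ∈ bb E i → c₁ x = 0 ∧ c₂ x = 0 := fun x h =>
    ⟨toAdd_eq_zero.2 ((hφ₁ x).2 (hKP h)), toAdd_eq_zero.2 ((hφ₂ x).2 (hBK h))⟩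
  have hadd : ∀ x x' : tow E (i + 1), c₁ (x * x') = c₁ x + c₁ x' ∧ c₂ (x * x') = c₂ x + c₂ x' :=
    fun x x' => by simp [c₁, c₂]
  have hzp : ∀ (x : tow E (i + 1)) (a : ℤ), c₁ (x ^ a) = a * c₁ x ∧ c₂ (x ^ a) = a * c₂ x :=
    fun x a => ⟨toAdd_zpow_coord φ₁ x a, toAdd_zpow_coord φ₂ x a⟩
  have hnp : ∀ (x : tow E (i + 1)) (a : ℕ), c₁ (x ^ a) = a * c₁ x ∧ c₂ (x ^ a) = a * c₂ x :=
    fun x a => by simpa using hzp x a
  -- linearity
  have hlin : ∀ α : MulAut (tow E (i + 1)),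
      (∀ x : tow E (i + 1), (x : G) ∈ bb E i → (α x : G) ∈ bb E i) → ∀ x,
      c₁ (α x) = c₁ x * c₁ (α Y) + c₂ x * c₁ (α ee) ∧
        c₂ (α x) = c₁ x * c₂ (α Y) + c₂ x * c₂ (α ee) := by
    intro α hα x
    set k : tow E (i + 1) := (Y ^ (c₁ x).val * ee ^ (c₂ x).val)⁻¹ * x with hk
    have hx : x = Y ^ (c₁ x).val * ee ^ (c₂ x).val * k := by rw [hk]; group
    have hk0 : (k : G) ∈ bb E i := by
      have e1 : c₁ x = c₁ (Y ^ (c₁ x).val * ee ^ (c₂ x).val * k) := congrArg c₁ hx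
      have e2 : c₂ x = c₂ (Y ^ (c₁ x).val * ee ^ (c₂ x).val * k) := congrArg c₂ hx
      rw [(hadd _ _).1, (hadd _ _).1, (hnp _ _).1, (hnp _ _).1, hcY.1, hce.1,
        ZMod.natCast_zmod_val] at e1
      rw [(hadd _ _).2, (hadd _ _).2, (hnp _ _).2, (hnp _ _).2, hcY.2, hce.2,
        ZMod.natCast_zmod_val, ZMod.natCast_zmod_val] at e2
      exact hzero k (by linear_combination -e1) (by linear_combination -e2)
    obtain ⟨hk1, hk2⟩ := hzero' _ (hα k hk0)
    have e3 : α x = α Y ^ (c₁ x).val * α ee ^ (c₂ x).val * α k := by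
      conv_lhs => rw [hx]
      simp only [map_mul, map_pow]
    rw [e3, (hadd _ _).1, (hadd _ _).1, (hnp _ _).1, (hnp _ _).1, hk1, (hadd _ _).2, (hadd _ _).2,
      (hnp _ _).2, (hnp _ _).2, hk2, ZMod.natCast_zmod_val, ZMod.natCast_zmod_val, add_zero, add_zero]
    exact ⟨rfl, rfl⟩
  -- the finishing step
  have hfinish : ∀ δ' ∈ A (tow E (i + 1)),
      (∀ k < i + 2, Scal δ' (fl E i (k + 1)) (fl E i k) (wt L μ i k)) →
      c₁ (δ' Y) = ((L ^ (i + 2) : ℤ) : ZMod p) → c₂ (δ' Y) = 0 →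
      c₁ (δ' ee) = 0 → c₂ (δ' ee) = (μ : ZMod p) → St A E L μ (i + 1) := by
    intro δ' hδ' hlow h1 h2 h3 h4
    have hK : ∀ x : tow E (i + 1), (x : G) ∈ bb E i → (δ' x : G) ∈ bb E i := by
      intro x hx
      have := (hlow (i + 1) (by omega)).apply_mem (hF.sec _ (by omega)).le (x := x)
        (by rcases i with _ | j <;> simpa [fl] using hx)
      rcases i with _ | j <;> simpa [fl] using this
    have hB : Scal δ' (bb E (i + 1)) (bb E i) (L ^ (i + 2)) := by
      refine scal_of_point (hS.sec_bb (by omega)) inf_le_left hK hy hyK ?_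
      refine hzero ((Y ^ (L ^ (i + 2)))⁻¹ * δ' Y) ?_ ?_
      · rw [(hadd _ _).1, ← zpow_neg, (hzp _ _).1, hcY.1, h1]; push_cast; ring
      · rw [(hadd _ _).2, ← zpow_neg, (hzp _ _).2, hcY.2, h2]; ring
    have hT : Scal δ' (tow E (i + 1)) (bb E (i + 1)) μ := by
      refine scal_of_point hsB le_rfl (fun x hx => hB.apply_mem hBK hx) heH (fun h => he' h.2) ?_
      refine (hφ₂ ((ee ^ μ)⁻¹ * δ' ee)).1 (toAdd_eq_zero.1 ?_)
      show c₂ _ = 0
      rw [(hadd _ _).2, ← zpow_neg, (hzp _ _).2, hce.2, h4]; push_cast; ring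
    refine ⟨δ', hδ', fun k hk => ?_⟩
    rcases k with _ | _ | k
    · simpa [fl, wt] using hlow 0 (by omega)
    · simpa [fl, wt] using hlow 1 (by omega)
    · rcases Nat.lt_or_ge k i with h | h
      · have := hlow (k + 2) (by omega)
        simpa [fl, wt, h, h.le, Nat.le_succ_of_le h.le, Nat.succ_le_of_lt h,
          Nat.succ_le_succ h.le, Nat.lt_succ_of_lt h] using this
      · rcases Nat.eq_or_lt_of_le h with rfl | h'
        · simpa [fl, wt] using hB
        · obtain rfl : k = i + 1 := by omega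
          simpa [fl, wt] using hT
  have hKδ : ∀ x : tow E (i + 1), (x : G) ∈ bb E i → (δ x : G) ∈ bb E i := fun x hx => by
    simpa [fl] using hF.mem_of_scal (k := i + 2) (N := tow E i) (α := 1) (a := fun _ => 1)
      (fun _ _ => scal_one) (by omega) (x := ⟨(δ x : G), by
        have := (hw (i + 1) (by omega)).apply_mem (hF.sec _ (by omega)).le (x := x)
          (by rcases i with _ | j <;> simpa [fl] using hx)
        exact (hF.le (by omega)) this⟩) (by
        have := (hw (i + 1) (by omega)).apply_mem (hF.sec _ (by omega)).le (x := x)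
          (by rcases i with _ | j <;> simpa [fl] using hx)
        simpa using this)
  have hda : c₁ (δ Y) = ((L ^ (i + 2) : ℤ) : ZMod p) := by
    have h := (hφ₁ ((Y ^ (L ^ (i + 2)))⁻¹ * δ Y)).2 (by simpa [Y] using ha Y hy.1)
    have h' : c₁ ((Y ^ (L ^ (i + 2)))⁻¹ * δ Y) = 0 := toAdd_eq_zero.2 h
    rw [(hadd _ _).1, ← zpow_neg, (hzp _ _).1, hcY.1] at h'
    push_cast at h' ⊢
    linear_combination h'
  have htop : Scal δ (tow E i) (bb E i) μ := by simpa [fl, wt] using hw (i + 2) (by omega)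
  obtain ⟨hde1, hde2⟩ : c₁ (δ ee) = 0 ∧ c₂ (δ ee) = (μ : ZMod p) := by
    have h := htop ee heP
    obtain ⟨h1, h2⟩ := hzero' ((ee ^ μ)⁻¹ * δ ee) (by simpa [ee] using h)
    rw [(hadd _ _).1, ← zpow_neg, (hzp _ _).1, hce.1] at h1
    rw [(hadd _ _).2, ← zpow_neg, (hzp _ _).2, hce.2] at h2
    push_cast at h2
    exact ⟨by linear_combination h1, by linear_combination h2⟩
  set a : ZMod p := ((L ^ (i + 2) : ℤ) : ZMod p) with ha'
  set r := c₂ (δ Y)
  by_cases hr : r = 0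
  · exact hfinish δ hδ (fun k hk => hw k (by omega)) hda hr hde1 hde2
  by_cases heq : a = (μ : ZMod p)
  · have hpow : ∀ j : ℕ, c₁ ((δ ^ j) Y) = a ^ j ∧ c₂ ((δ ^ j) Y) * a = j * r * a ^ j ∧
        c₁ ((δ ^ j) ee) = 0 ∧ c₂ ((δ ^ j) ee) = a ^ j := by
      intro j
      induction j with
      | zero => simp [hcY, hce]
      | succ j ih =>
        obtain ⟨i1, i2, i3, i4⟩ := ih
        obtain ⟨y1, y2⟩ := hlin δ hKδ ((δ ^ j) Y)
        obtain ⟨e1, e2⟩ := hlin δ hKδ ((δ ^ j) ee)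
        rw [hda, hde1] at y1 e1
        rw [hde2, ← heq] at y2 e2
        rw [pow_succ' δ, MulAut.mul_apply, MulAut.mul_apply, y1, y2, e1, e2, i1, i3, i4]
        refine ⟨by ring, ?_, by ring, by ring⟩
        push_cast
        linear_combination a * i2
    obtain ⟨p1, p2, p3, p4⟩ := hpow p
    have ha0 : a ≠ 0 := by
      intro h
      rw [heq] at h
      rw [← ZMod.intCast_zmod_eq_zero_iff_dvd] at hμ
      push_cast at hμ
      simp [h] at hμ
    refine hfinish (δ ^ p) (pow_mem hδ p) (fun k hk => ?_) (by rw [p1, ZMod.pow_card])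
      (by simpa [ha0] using p2) p3 (by rw [p4, ZMod.pow_card, heq])
    refine (scal_pow (hF.sec k (by omega)) (fun x hx => ?_) (hw k (by omega)) p).congr
      (hF.sec k (by omega)) (by
        rw [← ZMod.intCast_zmod_eq_zero_iff_dvd]; push_cast; rw [ZMod.pow_card, sub_self])
    rcases k with _ | k
    · rw [show fl E i 0 = ⊥ from rfl, mem_bot] at hx ⊢
      rw [show x = 1 from Subtype.ext hx, map_one]; rfl
    · exact (hw k (by omega)).apply_mem (hF.sec k (by omega)).le hx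
  -- the conjugate of a shear moving the eigenline
  obtain ⟨y₂, hy₂, hy₂'⟩ : ∃ g ∈ tow E (i + 2), g ∉ tow E (i + 1) := by
    refine SetLike.not_le_iff_exists.1 fun h => ?_
    have := card_le_of_le h
    rw [hS.card_tow _ (by omega), hS.card_tow _ (by omega)] at this
    exact absurd ((Nat.pow_le_pow_iff_right hp.out.one_lt).1 this) (by omega)
  have hnor := hS.normalizes (i + 1) (by omega) hcen
  set t := cj (tow E (i + 1)) y₂ hy₂
  have htA : t ∈ A (tow E (i + 1)) := hA.cj_mem _ (hS.le_tow _) _ _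
  have htn : ∀ k, y₂ ∈ normalizer (fl E (i + 1) k : Set G) :=
    hS.fl_normal hy₂ (hc hy₂) fun j hj => hnor j hj hy₂
  have htK : ∀ x : tow E (i + 1), (x : G) ∈ bb E i → (t x : G) ∈ bb E i := fun x hx =>
    (mem_normalizer_iff.1 (hnor i (by omega) hy₂) _).1 hx
  have htB : Scal t (bb E (i + 1)) (bb E i) 1 := scal_cj hS.pG (hS.sec_bb (by omega)) inf_le_left hy₂
    (hnor (i + 1) le_rfl hy₂) (hnor i (by omega) hy₂)
  have htT : Scal t (tow E (i + 1)) (bb E (i + 1)) 1 :=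
    scal_cj hS.pG hsB le_rfl hy₂ hy₂ (hnor (i + 1) le_rfl hy₂)
  obtain ⟨hty1, hty2⟩ : c₁ (t Y) = 1 ∧ c₂ (t Y) = 0 := by
    have h := htB Y hy
    rw [zpow_one] at h
    obtain ⟨h1, h2⟩ := hzero' (Y⁻¹ * t Y) (by simpa using h)
    rw [(hadd _ _).1, ← zpow_neg_one, (hzp _ _).1, hcY.1] at h1
    rw [(hadd _ _).2, ← zpow_neg_one, (hzp _ _).2, hcY.2] at h2
    push_cast at h1 h2
    exact ⟨by linear_combination h1, by linear_combination h2⟩
  have hte2 : c₂ (t ee) = 1 := by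
    have h := htT ee heH
    rw [zpow_one] at h
    have h2 : c₂ (ee⁻¹ * t ee) = 0 := toAdd_eq_zero.2 ((hφ₂ _).2 (by simpa using h))
    rw [(hadd _ _).2, ← zpow_neg_one, (hzp _ _).2, hce.2] at h2
    push_cast at h2
    linear_combination h2
  set κ := c₁ (t ee)
  have hκ : κ ≠ 0 := by
    intro h
    refine hy₂' (mem_normalizer_of_map_le fun x hx => ?_)
    have hle : zpowers e ⊔ bb E i ≤ (tow E i).comap (MulAut.conj y₂).toMonoidHom :=
      sup_le (zpowers_le.2 ((hφ₁ (t ee)).1 (toAdd_eq_zero.1 h))) fun w hw0 =>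
        hKP ((mem_normalizer_iff.1 (hnor i (by omega) hy₂) w).1 hw0)
    rw [← hS.tow_eq_sup (by omega) he he'] at hle
    exact hle hx
  have hμ0 : (μ : ZMod p) ≠ 0 ∧ (L : ZMod p) ≠ 0 := by
    rw [← ZMod.intCast_zmod_eq_zero_iff_dvd] at hμ
    push_cast at hμ
    constructor <;> intro h <;> simp [h] at hμ
  have ha0 : a ≠ 0 := by
    rw [ha']; push_cast; exact pow_ne_zero _ hμ0.2
  set k₀ : ZMod p := -a / (κ * r) with hk₀
  have hk0 : k₀ ≠ 0 := div_ne_zero (neg_ne_zero.2 ha0) (mul_ne_zero hκ hr)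
  have htpow : ∀ (j : ℕ) (x : tow E (i + 1)),
      c₁ ((t ^ j) x) = c₁ x + j * κ * c₂ x ∧ c₂ ((t ^ j) x) = c₂ x := by
    intro j
    induction j with
    | zero => simp
    | succ j ih =>
      intro x
      obtain ⟨l1, l2⟩ := hlin t htK ((t ^ j) x)
      rw [pow_succ' t, MulAut.mul_apply, l1, l2, hty1, hty2, hte2, (ih x).1, (ih x).2]
      exact ⟨by push_cast; ring, by ring⟩
  set α := t ^ k₀.val * δ with hαdef
  have hαA : α ∈ A (tow E (i + 1)) := mul_mem (pow_mem htA _) hδ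
  -- invariance of the lower flag
  have hpres : ∀ β : MulAut (tow E (i + 1)),
      (∀ k < i + 2, ∃ b : ℤ, Scal β (fl E i (k + 1)) (fl E i k) b) →
      ∀ k ≤ i + 2, ∀ x : tow E (i + 1), (x : G) ∈ fl E i k → (β x : G) ∈ fl E i k := by
    intro β hβ k hk x hx
    rcases k with _ | k
    · rw [show fl E i 0 = ⊥ from rfl, mem_bot] at hx ⊢
      rw [show x = 1 from Subtype.ext hx, map_one]; rfl
    · obtain ⟨b, hb⟩ := hβ k (by omega)
      exact hb.apply_mem (hF.sec k (by omega)).le hx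
  have htlow : ∀ k < i + 2, Scal t (fl E i (k + 1)) (fl E i k) 1 := by
    intro k hk
    have hn' : ∀ l ≤ i + 2, y₂ ∈ normalizer (fl E i l : Set G) := by
      intro l hl
      have h := htn l
      rcases l with _ | _ | l
      · exact h
      · exact h
      · simpa [fl, show l ≤ i by omega, show l ≤ i + 1 by omega] using h
    exact scal_cj hS.pG (hF.sec k (by omega)) ((hF.le (by omega)).trans le_normalizer) hy₂
      (hn' _ (by omega)) (hn' _ (by omega))
  have hδp := hpres δ fun k hk => ⟨_, hw k (by omega)⟩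
  have hαlow : ∀ k ≤ i + 2, ∀ x : tow E (i + 1), (x : G) ∈ fl E i k → (α x : G) ∈ fl E i k := by
    intro k hk x hx
    have h1 : ∀ j : ℕ, ∀ z : tow E (i + 1), (z : G) ∈ fl E i k → ((t ^ j) z : G) ∈ fl E i k := by
      intro j
      induction j with
      | zero => exact fun z hz => hz
      | succ j ih =>
        intro z hz
        rw [pow_succ' t, MulAut.mul_apply]
        exact hpres t (fun l hl => ⟨1, htlow l hl⟩) k hk _ (ih z hz)
    rw [hαdef, MulAut.mul_apply]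
    exact h1 _ _ (hδp k hk x hx)
  set h := α * t * α⁻¹ with hh
  have hhA : h ∈ A (tow E (i + 1)) := mul_mem (mul_mem hαA htA) (inv_mem hαA)
  have hhlow : ∀ k < i + 2, Scal h (fl E i (k + 1)) (fl E i k) 1 := fun k hk =>
    scal_conj ((hF.le (by omega)).trans le_normalizer) (hαlow (k + 1) (by omega))
      (hαlow k (by omega)) (htlow k hk)
  have hbbfl : fl E i (i + 2) = bb E i := by simp [fl]
  have hhK : ∀ x : tow E (i + 1), (x : G) ∈ bb E i → (h x : G) ∈ bb E i := fun x hx => by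
    have := hpres h (fun k hk => ⟨1, hhlow k hk⟩) (i + 2) le_rfl x (hbbfl ▸ hx)
    rwa [hbbfl] at this
  have hαK : ∀ x : tow E (i + 1), (x : G) ∈ bb E i → (α x : G) ∈ bb E i := fun x hx => by
    have := hαlow (i + 2) le_rfl x (hbbfl ▸ hx)
    rwa [hbbfl] at this
  obtain ⟨hαy1, hαy2⟩ : c₁ (α Y) = 0 ∧ c₂ (α Y) = r := by
    obtain ⟨l1, l2⟩ := htpow k₀.val (δ Y)
    rw [hαdef, MulAut.mul_apply, l1, l2, ZMod.natCast_zmod_val, hda]
    exact ⟨by rw [hk₀]; field_simp; ring, rfl⟩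
  obtain ⟨hαe1, hαe2⟩ : c₁ (α ee) = k₀ * κ * μ ∧ c₂ (α ee) = (μ : ZMod p) := by
    obtain ⟨l1, l2⟩ := htpow k₀.val (δ ee)
    rw [hαdef, MulAut.mul_apply, l1, l2, ZMod.natCast_zmod_val, hde1, hde2]
    exact ⟨by ring, rfl⟩
  have hhα : ∀ x, h (α x) = α (t x) := fun x => by
    rw [hh, MulAut.mul_apply, MulAut.mul_apply, MulAut.inv_apply_self]
  obtain ⟨hhe1, hhe2⟩ : c₁ (h ee) = 0 ∧ c₂ (h ee) = 1 := by
    obtain ⟨l1, l2⟩ := hlin h hhK (α Y)
    obtain ⟨m1, m2⟩ := hlin α hαK (t Y)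
    rw [hhα, m1, hty1, hty2, hαy1, hαy2] at l1
    rw [hhα, m2, hty1, hty2, hαy1, hαy2] at l2
    constructor
    · exact (mul_right_inj' hr).1 (by linear_combination -l1)
    · exact (mul_right_inj' hr).1 (by linear_combination -l2)
  set σ := r / (k₀ * (μ : ZMod p)) with hσ
  obtain ⟨hhy1, hhy2⟩ : c₁ (h Y) = 1 ∧ c₂ (h Y) = σ := by
    obtain ⟨l1, l2⟩ := hlin h hhK (α ee)
    obtain ⟨m1, m2⟩ := hlin α hαK (t ee)
    rw [hhα, m1, hte2, hαy1, hαe1, hαe2, hhe1] at l1
    rw [hhα, m2, hte2, hαy2, hαe1, hαe2, hhe2] at l2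
    have hne : k₀ * κ * (μ : ZMod p) ≠ 0 := mul_ne_zero (mul_ne_zero hk0 hκ) hμ0.1
    constructor
    · exact (mul_right_inj' hne).1 (by linear_combination -l1)
    · refine (mul_right_inj' hne).1 ?_
      have hs : σ * (k₀ * (μ : ZMod p)) = r := div_mul_cancel₀ r (mul_ne_zero hk0 hμ0.1)
      linear_combination -l2 - κ * hs
  have hσ0 : σ ≠ 0 := div_ne_zero hr (mul_ne_zero hk0 hμ0.1)
  set j₀ : ZMod p := r / ((μ - a) * σ) with hj₀
  set g := h ^ j₀.val with hg
  have hgpow : ∀ j : ℕ, (∀ x, c₁ ((h ^ j) x) = c₁ x ∧ c₂ ((h ^ j) x) = c₂ x + j * σ * c₁ x) := by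
    intro j
    induction j with
    | zero => simp
    | succ j ih =>
      intro x
      obtain ⟨l1, l2⟩ := hlin h hhK ((h ^ j) x)
      rw [pow_succ' h, MulAut.mul_apply, l1, l2, hhy1, hhy2, hhe1, hhe2, (ih x).1, (ih x).2]
      exact ⟨by ring, by push_cast; ring⟩
  have hgc : ∀ x, c₁ (g x) = c₁ x ∧ c₂ (g x) = c₂ x + j₀ * σ * c₁ x := fun x => by
    obtain ⟨l1, l2⟩ := hgpow j₀.val x
    rw [ZMod.natCast_zmod_val] at l2
    exact ⟨l1, l2⟩
  have hglow : ∀ k < i + 2, Scal g (fl E i (k + 1)) (fl E i k) 1 := fun k hk => by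
    have := scal_pow (hF.sec k (by omega)) (hpres h (fun l hl => ⟨1, hhlow l hl⟩) k hk.le)
      (hhlow k hk) j₀.val
    rwa [one_pow] at this
  have hgilow : ∀ k < i + 2, Scal g⁻¹ (fl E i (k + 1)) (fl E i k) 1 := fun k hk => by
    haveI : Finite (MulAut (tow E (i + 1))) :=
      Finite.of_injective (fun e : MulAut (tow E (i + 1)) => (e : tow E (i + 1) → tow E (i + 1)))
        DFunLike.coe_injective
    have hinv : g⁻¹ = g ^ (orderOf g - 1) := by
      refine inv_eq_of_mul_eq_one_right ?_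
      rw [← pow_succ', Nat.sub_add_cancel (orderOf_pos g), pow_orderOf_eq_one]
    have := scal_pow (hF.sec k (by omega)) (hpres g (fun l hl => ⟨1, hglow l hl⟩) k hk.le)
      (hglow k hk) (orderOf g - 1)
    rwa [one_pow, ← hinv] at this
  set δ' := g * δ * g⁻¹ with hδ'
  have hδ'A : δ' ∈ A (tow E (i + 1)) :=
    mul_mem (mul_mem (pow_mem hhA _) hδ) (inv_mem (pow_mem hhA _))
  have hδ'low : ∀ k < i + 2, Scal δ' (fl E i (k + 1)) (fl E i k) (wt L μ i k) := fun k hk => by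
    have hgd := (hglow k hk).trans (hF.sec k (by omega))
      (hpres g (fun l hl => ⟨1, hglow l hl⟩) k hk.le) (hw k (by omega))
    have := hgd.trans (hF.sec k (by omega))
      (fun x hx => hpres g (fun l hl => ⟨1, hglow l hl⟩) k hk.le (δ x) (hδp k hk.le x hx)) (hgilow k hk)
    rwa [one_mul, mul_one] at this
  have hδ'K : ∀ x : tow E (i + 1), (x : G) ∈ bb E i → (δ' x : G) ∈ bb E i := fun x hx => by
    have := hpres δ' (fun k hk => ⟨_, hδ'low k hk⟩) (i + 2) le_rfl x (hbbfl ▸ hx)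
    rwa [hbbfl] at this
  have hδ'g : ∀ x, δ' (g x) = g (δ x) := fun x => by
    rw [hδ', MulAut.mul_apply, MulAut.mul_apply, MulAut.inv_apply_self]
  obtain ⟨l1, l2⟩ := hlin δ' hδ'K (g ee)
  rw [hδ'g, (hgc _).1, (hgc _).1, (hgc _).2, hde1, hce.1, hce.2] at l1
  rw [hδ'g, (hgc _).2, (hgc _).1, (hgc _).2, hde1, hde2, hce.1, hce.2] at l2
  obtain ⟨n1, n2⟩ := hlin δ' hδ'K (g Y)
  rw [hδ'g, (hgc _).1, (hgc _).1, (hgc _).2, hda, hcY.1, hcY.2] at n1
  rw [hδ'g, (hgc _).2, (hgc _).1, (hgc _).2, hda, hcY.1, hcY.2] at n2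
  have he1 : c₁ (δ' ee) = 0 := by linear_combination -l1
  have he2 : c₂ (δ' ee) = (μ : ZMod p) := by linear_combination -l2
  rw [he1] at n1
  rw [he2] at n2
  refine hfinish δ' hδ'A hδ'low (by linear_combination -n1) ?_ he1 he2
  have hma : (μ : ZMod p) - a ≠ 0 := sub_ne_zero.2 fun h => heq h.symm
  have hsolve : j₀ * σ * ((μ : ZMod p) - a) = r := by
    rw [hj₀]; field_simp
  linear_combination -n2 - hsolve

/-- All the steps. -/
theorem exists_state (hA : IsSys p E A) (hμ : (p : ℤ) ∣ L * μ - 1)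
    (hL : ∀ m, 1 ≤ m → m + 2 ≤ p → ¬ (p : ℤ) ∣ L ^ m - 1) (h0 : St A E L μ 0) :
    ∀ i, i + 3 ≤ p → i + 4 ≤ n → (i + 5 ≤ n ∨ cc E = center G) →
      St A E L μ i ∧ ∀ k ≤ i, tow E k ≤ centralizer (bb E 0 : Set G) := by
  intro i
  induction i with
  | zero =>
    refine fun _ _ _ => ⟨h0, fun k hk => ?_⟩
    obtain rfl : k = 0 := by omega
    exact fun x hx => mem_centralizer_iff.2 fun w hw => hS.commute_E (hS.bb_zero_le hw) hx
  | succ i ih =>
    intro hp' hn' hor
    obtain ⟨hst, hcen⟩ := ih (by omega) (by omega) (Or.inl (by omega))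
    have hc : tow E (i + 1) ≤ centralizer (cc E : Set G) :=
      hS.tower.2.1 _ (hS.tow_mono (show 1 ≤ i + 1 by omega)) (hS.tow_ne_top (by omega))
    obtain ⟨δ, hδ, hw, ha⟩ :=
      hS.extend hA hμ (by omega) hcen (hc.trans (centralizer_le_normalizer _)) hst
    have hnext := hS.cent_step hμ (by omega) (hL (i + 1) (by omega) (by omega)) hcen hc hw ha
    have hcen' : ∀ k ≤ i + 1, tow E k ≤ centralizer (bb E 0 : Set G) := fun k hk => by
      rcases Nat.lt_or_ge k (i + 1) with h | h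
      · exact hcen k (by omega)
      · obtain rfl : k = i + 1 := by omega
        exact hnext
    refine ⟨hS.adjust hA hμ (by omega) hcen' ?_ hδ hw ha, hcen'⟩
    rcases hor with h | h
    · exact (hS.tower.2.1 _ (hS.tow_mono (show 1 ≤ i + 2 by omega))
        (hS.tow_ne_top (by omega))).trans (centralizer_le_normalizer _)
    · rw [h]
      exact fun g _ => mem_normalizer_of_map_le fun x hx => by
        rwa [mem_center_iff.1 hx g, mul_inv_cancel_right]

end Setup

end CfsgLib.MaxClassEss
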