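import Cfsg.Agent.MaxClassEss.Exceptional
import Cfsg.Agent.MaxClassEss.Weights

/-!
The weights are incompatible with maximal class.
-/

set_option autoImplicit false
set_option linter.unusedSectionVars false
set_option maxHeartbeats 1000000

open Subgroup
open scoped commutatorElement

namespace CfsgLib.MaxClassEss

open CfsgLib.FGSA.MaxClass

universe u

variable {G : Type u} [Group G] [Finite G] {p n : ℕ} [hp : Fact p.Prime] {E : Subgroup G}

/-- An integer of full order modulo `p`, with an inverse. -/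
theorem exists_root (p : ℕ) [hp : Fact p.Prime] : ∃ L μ : ℤ, (p : ℤ) ∣ L * μ - 1 ∧
    (p : ℤ) ∣ L ^ (p - 1) - 1 ∧ ∀ m, 1 ≤ m → m + 2 ≤ p → ¬ (p : ℤ) ∣ L ^ m - 1 := by
  obtain ⟨g, hg⟩ := IsCyclic.exists_ofOrder_eq_natCard (α := (ZMod p)ˣ)
  rw [Nat.card_eq_fintype_card, ZMod.card_units] at hg
  have hcast : (((g : ZMod p).val : ℤ) : ZMod p) = g := by simp
  have h1 : (p : ℤ) ∣ ((g : ZMod p).val : ℤ) ^ (p - 1) - 1 := by
    rw [← ZMod.intCast_zmod_eq_zero_iff_dvd]
    push_cast
    rw [ZMod.natCast_zmod_val, ← Units.val_pow_eq_pow_val, ← hg, pow_orderOf_eq_one,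
      Units.val_one, sub_self]
  refine ⟨((g : ZMod p).val : ℤ), ((g : ZMod p).val : ℤ) ^ (p - 2), ?_, h1, fun m hm hm2 h => ?_⟩
  · rwa [← pow_succ', show p - 2 + 1 = p - 1 by have := hp.out.two_le; omega]
  · rw [← ZMod.intCast_zmod_eq_zero_iff_dvd] at h
    push_cast at h
    rw [ZMod.natCast_zmod_val, sub_eq_zero, ← Units.val_pow_eq_pow_val, Units.val_eq_one] at h
    have := Nat.le_of_dvd (by omega) (orderOf_dvd_of_pow_eq_one h)
    omega

variable {A : ∀ N : Subgroup G, Subgroup (MulAut N)} {L μ : ℤ}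

namespace Setup

variable (hS : Setup p n E)
include hS

/-- The case of a non-central commutator subgroup. -/
theorem final_exceptional (hA : IsSys p E A) (hμ : (p : ℤ) ∣ L * μ - 1)
    (h1 : (p : ℤ) ∣ L ^ (p - 1) - 1)
    (hL : ∀ m, 1 ≤ m → m + 2 ≤ p → ¬ (p : ℤ) ∣ L ^ m - 1) (h0 : St A E L μ 0)
    (hcc : cc E ≠ center G) : False := by
  have hn := hS.n5
  have hp5 := hS.p5
  have hev : ¬ Odd n := hS.not_odd hcc
  have hsmall : n ≤ p + 2 := by
    by_contra h
    exact hS.not_large hcc (by omega)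
  obtain ⟨q, hq⟩ := hp.out.odd_of_ne_two (by omega)
  have hev' : Even n := Nat.not_odd_iff_even.1 hev
  obtain ⟨r₀, hr₀⟩ := hev'
  obtain ⟨i, rfl⟩ : ∃ i, n = i + 5 := ⟨n - 5, by omega⟩
  obtain ⟨j, rfl⟩ : ∃ j, i = j + 1 := ⟨i - 1, by omega⟩
  set i := j + 1 with hi
  obtain ⟨hst, hcen⟩ := hS.exists_state hA hμ hL h0 i (by omega) (by omega) (Or.inl (by omega))
  have hc : tow E (i + 1) ≤ centralizer (cc E : Set G) :=
    hS.tower.2.1 _ (hS.tow_mono (show 1 ≤ i + 1 by omega)) (hS.tow_ne_top (by omega))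
  obtain ⟨δ, -, hw, ha⟩ :=
    hS.extend hA hμ (by omega) hcen (hc.trans (centralizer_le_normalizer _)) hst
  have hnext := hS.cent_step hμ (by omega) (hL (i + 1) (by omega) (by omega)) hcen hc hw ha
  have hcen' : ∀ k ≤ i + 1, tow E k ≤ centralizer (bb E 0 : Set G) := fun k hk => by
    rcases Nat.lt_or_ge k (i + 1) with h | h
    · exact hcen k (by omega)
    · obtain rfl : k = i + 1 := by omega
      exact hnext
  -- the second term of the lower central series
  have hM : tow E (i + 1) = tow E (i + 5 - 4) := by congr 1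
  have hγ : lcs G 1 = bb E (i + 1) :=
    le_antisymm (le_inf (hM ▸ hS.gamma_le_max) le_rfl) inf_le_right
  have htop : tow E (i + 2) = ⊤ := by
    have := hS.tow_last
    rwa [show i + 5 - 3 = i + 2 by omega] at this
  have hnor := hS.normalizes (i + 1) (by omega) hcen'
  rw [htop] at hnor
  have h2 : lcs G 2 = bb E i := by
    refine eq_of_le_of_card_ge (commutator_le.2 fun x hx y _ => ?_) ?_
    · have := comm_mem_sec hS.pG (hS.sec_bb (k := i) (by omega)) (hnor (i + 1) le_rfl (mem_top y))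
        (hnor i (by omega) (mem_top y)) (hγ.le hx)
      rw [← inv_mem_iff, commutatorElement_inv]
      exact this
    · rw [hS.card_bb (by omega), hS.card_gamma (by omega) (by omega)]
      exact (congrArg (p ^ ·) (by omega)).le
  obtain ⟨e, he, he'⟩ := hS.exists_e
  obtain ⟨s, hs⟩ : ∃ s, s ∉ tow E (i + 5 - 4) := by
    by_contra! h
    exact hS.tow_ne_top (k := i + 5 - 4) (by omega) ((Subgroup.eq_top_iff' _).2 h)
  obtain ⟨f, hf, hf'⟩ : ∃ f ∈ bb E 1, f ∉ bb E 0 := by
    refine SetLike.not_le_iff_exists.1 fun h => ?_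
    have := card_le_of_le h
    rw [hS.card_bb (by omega), hS.card_bb_zero] at this
    exact absurd ((Nat.pow_le_pow_iff_right hp.out.one_lt).1 this) (by omega)
  set g := ⁅s, e⁆
  have hg : g ∈ lcs G 1 := commutator_mem_commutator (mem_top s) (mem_top e)
  have hpair := hS.pairing_ne_one hcc he he' hs hf hf'
  have hf4 : f ∈ lcs G (i + 5 - 4) := (hS.gamma_eq_bb_one hcc).ge hf
  set z := ⁅g, f⁆ with hzdef
  have hzZ : z ∈ center G := by
    rw [hS.center_eq, hzdef, ← inv_mem_iff, commutatorElement_inv]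
    have := commutator_lcs 1 (i + 5 - 4) (commutator_mem_commutator hf4 hg)
    rwa [show i + 5 - 4 + 1 + 1 = i + 5 - 2 by omega] at this
  have hz1 : z ≠ 1 := fun h => hpair (by rw [← commutatorElement_inv, ← hzdef, h, inv_one])
  have hz0 : z ∈ bb E 0 := ⟨hS.center_le hzZ, commutator_mem_commutator (mem_top g) (mem_top f)⟩
  have hzc : z ∉ cc E := fun h => hz1 (hS.center_inf_cc hcc h hzZ)
  -- the action of the weighted automorphism
  have hgT : g ∈ tow E (i + 1) := (hγ.le hg).1
  have hfT : f ∈ tow E (i + 1) := hS.tow_mono (show 1 ≤ i + 1 by omega) hf.1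
  set g' : ↥(tow E (i + 1)) := ⟨g, hgT⟩
  set f' : ↥(tow E (i + 1)) := ⟨f, hfT⟩
  have hK : cc E ≤ tow E (i + 1) := hS.cc_facts.2.1.trans (hS.bb_zero_le.trans (hS.le_tow _))
  haveI : ((cc E).subgroupOf (tow E (i + 1))).Normal :=
    (normal_subgroupOf_iff_le_normalizer hK).2 (hc.trans (centralizer_le_normalizer _))
  set π := QuotientGroup.mk' ((cc E).subgroupOf (tow E (i + 1)))
  set a : ℤ := L ^ (i + 2)
  set m : ↥(tow E (i + 1)) := (g' ^ a)⁻¹ * δ g' with hm
  have hmT : (m : G) ∈ tow E i := by simpa [hm, g'] using ha g' hgT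
  set w : ↥(tow E (i + 1)) := (f' ^ (L ^ 2))⁻¹ * δ f' with hwd
  have hw0 : (w : G) ∈ bb E 0 := by
    have := hw 2 (by omega) f' (by simpa [fl, hi, f'] using hf)
    simpa [fl, wt, hi, hwd, f'] using this
  obtain ⟨r, hr⟩ := (hS.sec_top (k := i) (by omega)).exists_zpow (hS.le_tow i he)
    (fun h => he' h.2) hmT
  have hcomm : Commute (π f') (π m) := by
    rw [← commutatorElement_eq_one_iff_commute, ← map_commutatorElement, QuotientGroup.mk'_apply,
      QuotientGroup.eq_one_iff, mem_subgroupOf]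
    show ⁅f, (m : G)⁆ ∈ cc E
    set u := (e ^ r)⁻¹ * (m : G) with hu
    have hfu : f * u = u * f := hS.gamma_comm_bot (i := i + 5 - 4) (j := 2) (by omega) hf4 (h2.ge hr)
    have e1 : ⁅f, (m : G)⁆ = ⁅f, e ^ r⁆ := by
      rw [show (m : G) = e ^ r * u by rw [hu]; group]
      simp only [commutatorElement_def]
      rw [show f * (e ^ r * u) * f⁻¹ * (e ^ r * u)⁻¹ = f * e ^ r * (u * f⁻¹ * u⁻¹) * (e ^ r)⁻¹ by group,
        show u * f⁻¹ * u⁻¹ = f⁻¹ from by
          rw [← (show Commute f u from hfu).inv_left.eq, mul_inv_cancel_right]]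
    rw [e1]
    exact commutator_mem_commutator hf.1 (zpow_mem (hS.le_tow 1 he) r)
  have hwc : ∀ q : tow E (i + 1) ⧸ (cc E).subgroupOf (tow E (i + 1)), q * π w = π w * q := fun q => by
    obtain ⟨v, rfl⟩ := QuotientGroup.mk'_surjective _ q
    rw [← map_mul, ← map_mul]
    exact congrArg π (Subtype.ext (mem_centralizer_iff.1 (hnext v.2) _ hw0).symm)
  have hzN : ((⁅g', f'⁆ : tow E (i + 1)) : G) = z := by simp [g', f', hzdef, commutatorElement_def]
  set Z := ⁅π g', π f'⁆ with hZ
  have hZc : ∀ q : tow E (i + 1) ⧸ (cc E).subgroupOf (tow E (i + 1)), q * Z = Z * q := fun q => by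
    obtain ⟨v, rfl⟩ := QuotientGroup.mk'_surjective _ q
    rw [hZ, ← map_commutatorElement, ← map_mul, ← map_mul]
    refine congrArg π (Subtype.ext ?_)
    rw [Subgroup.coe_mul, Subgroup.coe_mul, hzN]
    exact mem_center_iff.1 hzZ v
  have hδ1 : π (δ ⁅g', f'⁆) = Z ^ (a * L ^ 2) := by
    rw [map_commutatorElement, map_commutatorElement,
      show δ g' = g' ^ a * m by rw [hm]; group, show δ f' = f' ^ (L ^ 2) * w by rw [hwd]; group,
      ← comm_zpow_zpow hZc hZ.symm a (L ^ 2)]
    simp only [map_mul, map_zpow]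
    set X := π g' ^ a
    set F := π f' ^ (L ^ 2)
    have hmF : π m * F = F * π m := ((hcomm.zpow_left (L ^ 2)).symm).eq
    simp only [commutatorElement_def]
    calc X * π m * (F * π w) * (X * π m)⁻¹ * (F * π w)⁻¹
        = X * π m * F * (π w * (X * π m)⁻¹) * (π w)⁻¹ * F⁻¹ := by group
      _ = X * π m * F * (X * π m)⁻¹ * F⁻¹ := by rw [← hwc]; group
      _ = X * (π m * F) * (π m)⁻¹ * X⁻¹ * F⁻¹ := by group
      _ = _ := by rw [hmF]; group
  have hδ2 : π (δ ⁅g', f'⁆) = Z := by
    rw [hZ, ← map_commutatorElement]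
    refine (QuotientGroup.eq.2 (mem_subgroupOf.2 ?_)).symm
    have := hw 1 (by omega) ⁅g', f'⁆ (by rw [hzN]; simpa [fl, hi] using hz0)
    simpa [fl, wt, -commutatorElement_inv] using this
  have hdvd : (p : ℤ) ∣ a * L ^ 2 - 1 := by
    refine (sec_of_card hS.pG hS.cc_facts.2.1
      (by rw [hS.cc_facts.1, hS.card_bb_zero, sq])).dvd_of_zpow_mem hz0 hzc ?_
    have h3 : Z ^ (a * L ^ 2 - 1) = 1 := by
      rw [zpow_sub, ← hδ1, hδ2, zpow_one, mul_inv_cancel]
    rw [hZ, ← map_commutatorElement, ← map_zpow, QuotientGroup.mk'_apply, QuotientGroup.eq_one_iff,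
      mem_subgroupOf, SubgroupClass.coe_zpow, hzN] at h3
    exact h3
  have hk : a * L ^ 2 = L ^ (i + 4) := by simp only [a]; rw [← pow_add]
  rw [hk] at hdvd
  rcases Nat.lt_or_ge (i + 4) (p - 1) with h | h
  · exact hL _ (by omega) (by omega) hdvd
  · obtain h' | h' : i + 4 = p ∨ i + 4 = p - 1 := by omega
    · refine hL 1 le_rfl (by omega) ?_
      rw [pow_one]
      have hF : (p : ℤ) ∣ L ^ p - L := by
        rw [← ZMod.intCast_zmod_eq_zero_iff_dvd]; push_cast; rw [ZMod.pow_card, sub_self]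
      have := dvd_sub (h' ▸ hdvd) hF
      simpa using this
    · omega

/-- The case of a central commutator subgroup and small order. -/
theorem final_small (hA : IsSys p E A) (hμ : (p : ℤ) ∣ L * μ - 1)
    (hL : ∀ m, 1 ≤ m → m + 2 ≤ p → ¬ (p : ℤ) ∣ L ^ m - 1) (h0 : St A E L μ 0)
    (hcc : cc E = center G) (hsmall : n ≤ p + 1) : False := by
  have hn := hS.n5
  obtain ⟨hst, hcen⟩ :=
    hS.exists_state hA hμ hL h0 (n - 4) (by omega) (by omega) (Or.inr hcc)
  have hc : tow E (n - 4 + 1) ≤ centralizer (cc E : Set G) := fun x _ =>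
    mem_centralizer_iff.2 fun z hz => (mem_center_iff.1 (hcc.le hz) x).symm
  obtain ⟨δ, -, hw, ha⟩ :=
    hS.extend hA hμ (by omega) hcen (hc.trans (centralizer_le_normalizer _)) hst
  have hnext := hS.cent_step hμ (by omega) (hL (n - 4 + 1) (by omega) (by omega)) hcen hc hw ha
  rw [show n - 4 + 1 = n - 3 by omega, hS.tow_last] at hnext
  have hle : bb E 0 ≤ center G := fun z hz => mem_center_iff.2 fun x =>
    (mem_centralizer_iff.1 (hnext (mem_top x)) z hz).symm
  have := card_le_of_le hle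
  rw [hS.card_bb_zero, hS.card_center] at this
  nlinarith [hp.out.two_le]

/-- The case of a central commutator subgroup and large order. -/
theorem final_large (hA : IsSys p E A) (hμ : (p : ℤ) ∣ L * μ - 1)
    (h1 : (p : ℤ) ∣ L ^ (p - 1) - 1)
    (hL : ∀ m, 1 ≤ m → m + 2 ≤ p → ¬ (p : ℤ) ∣ L ^ m - 1) (h0 : St A E L μ 0)
    (hcc : cc E = center G) (hlarge : p + 2 ≤ n) : False := by
  have hn := hS.n5
  have hp5 := hS.p5
  have h3 : 3 ≤ p := by omega
  obtain ⟨i, hi⟩ : ∃ i, p = i + 3 := ⟨p - 3, by omega⟩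
  obtain ⟨j, hj⟩ : ∃ j, n = j + p + 1 := ⟨n - p - 1, by omega⟩
  have hj1 : 1 ≤ j := by omega
  have hanti : ∀ {a b : ℕ}, a ≤ b → lcs G b ≤ lcs G a := fun h =>
    (⊤ : Subgroup G).lowerCentralSeries_antitone h
  obtain ⟨hst, hcen⟩ := hS.exists_state hA hμ hL h0 i (by omega) (by omega) (Or.inl (by omega))
  have hc : tow E (i + 1) ≤ centralizer (cc E : Set G) :=
    hS.tower.2.1 _ (hS.tow_mono (show 1 ≤ i + 1 by omega)) (hS.tow_ne_top (by omega))
  obtain ⟨δ, -, hw, ha⟩ :=
    hS.extend hA hμ (by omega) hcen (hc.trans (centralizer_le_normalizer _)) hst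
  obtain ⟨e, he, he'⟩ := hS.exists_e
  -- `E ⊓ lcs 1` lies in the level of exponent `p`
  have hexp : ∀ x ∈ lcs G (j + 1), x ^ p = 1 := fun x hx => by
    have := CfsgLib.FGSA.MaxClassPow.pow_mem h3 (j + 1) (by omega) hS.pG hS.cardG (by omega) hS.max x hx
    rwa [lcs_last hS.pG hS.cardG (by omega) hS.max (by omega), mem_bot] at this
  have hb0 : bb E 0 ≤ lcs G (j + 1) := by
    intro x hx
    suffices h : ∀ l, 1 ≤ l → l ≤ j + 1 → x ∈ lcs G l from h _ (by omega) le_rfl
    intro l hl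
    induction l, hl using Nat.le_induction with
    | base => exact fun _ => hx.2
    | succ l hl ih =>
      intro hlj
      by_contra hnot
      refine CfsgLib.FGSA.MaxClassPow.pow_not_mem h3 l hl hS.pG hS.cardG (by omega) hS.max x
        (ih (by omega)) hnot ?_
      rw [hS.expE x (hS.bb_zero_le hx)]
      exact one_mem _
  have hsup : E ⊔ lcs G (j + 1) = tow E i := by
    haveI := lcs_normal (G := G) (j + 1)
    refine hS.eq_tow le_sup_left (by omega) ?_
    have h := CfsgLib.Solvable.card_sup_mul_card_inf (A := E) (K := lcs G (j + 1))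
      (le_normalizer_of_normal)
    have hinf : E ⊓ lcs G (j + 1) = bb E 0 :=
      le_antisymm (inf_le_inf_left _ (hanti (by omega))) (le_inf hS.bb_zero_le hb0)
    rw [hinf, hS.card_bb_zero, hS.cardE, hS.card_gamma (by omega) (by omega)] at h
    have e1 : p ^ 3 * p ^ (n - 1 - (j + 1)) = p ^ (i + 3) * p ^ 2 := by
      rw [← pow_add, ← pow_add]; congr 1; omega
    rw [e1] at h
    exact Nat.eq_of_mul_eq_mul_right (pow_pos hp.out.pos 2) h
  have hbi : bb E i = lcs G (j + 1) := by
    refine (eq_of_le_of_card_ge (le_inf (hsup ▸ le_sup_right) (hanti (by omega))) ?_).symm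
    show Nat.card (bb E i) ≤ _
    rw [hS.card_bb (by omega), hS.card_gamma (by omega) (by omega)]
    exact (congrArg (p ^ ·) (by omega)).le
  have hbi' : bb E (i + 1) = lcs G j := by
    refine (eq_of_le_of_card_ge (le_inf (fun x hx => mem_normalizer_of_map_le fun a ha => ?_)
      (hanti hj1)) ?_).symm
    · have h2 : ⁅x, a⁆ ∈ tow E i := (hbi.ge (comm_mem_succ _ hx a)).1
      simpa [commutatorElement_def, mul_assoc] using mul_mem h2 (show a ∈ tow E i from ha)
    · show Nat.card (bb E (i + 1)) ≤ _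
      rw [hS.card_bb (by omega), hS.card_gamma (by omega) (by omega)]
      exact (congrArg (p ^ ·) (by omega)).le
  obtain ⟨g, hg, hg'⟩ : ∃ g ∈ lcs G j, g ∉ lcs G (j + 1) := by
    refine SetLike.not_le_iff_exists.1 fun h => ?_
    have := card_le_of_le h
    rw [hS.card_gamma (by omega) (by omega), hS.card_gamma (by omega) (by omega)] at this
    exact absurd ((Nat.pow_le_pow_iff_right hp.out.one_lt).1 this) (by omega)
  have hgT : g ∈ (tow E (i + 1)) := (hbi'.ge hg).1
  have hTbot : (tow E (i + 1)).lowerCentralSeries (p - 1) = ⊥ := by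
    rw [show p - 1 = i + 1 + 1 by omega]
    refine hS.tower.2.2 _ (tow E (i + 1)) (hS.le_tow _) (hS.tow_ne_top (by omega)) ?_
    have hT := (tow E (i + 1)).card_mul_index
    have hE := E.card_mul_index
    rw [← hE, hS.card_tow _ (by omega), hS.cardE,
      show p ^ (i + 1 + 3) = p ^ 3 * p ^ (i + 1) by rw [← pow_add]; congr 1; omega, mul_assoc] at hT
    rw [mul_comm]
    exact Nat.eq_of_mul_eq_mul_left (pow_pos hp.out.pos 3) hT
  have hTd : ⁅(tow E (i + 1)), (tow E (i + 1))⁆ ≤ lcs G (j + 1) := by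
    haveI := lcs_normal (G := G) (j + 1)
    have hle : (tow E (i + 1)) ≤ closure (insert e (lcs G j : Set G)) := by
      show tow E (i + 1) ≤ _
      rw [hS.tow_eq_sup (by omega) he he', hbi']
      exact sup_le (zpowers_le.2 (subset_closure (Set.mem_insert _ _)))
        fun y hy => subset_closure (Set.mem_insert_of_mem _ hy)
    exact (commutator_mono hle hle).trans (CfsgLib.FGSA.MaxClassPow.closure_insert_derived_le
      (fun a ha => comm_mem_succ _ ha e) fun a ha b _ => comm_mem_succ _ ha b)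
  set g' : ↥(tow E (i + 1)) := ⟨g, hgT⟩
  set d : ↥(tow E (i + 1)) := g'⁻¹ * δ g' with hd
  have hdK : (d : G) ∈ tow E i := by
    have hs : Sec p (tow E (i + 1)) (tow E i) := sec_of_card hS.pG le_normalizer (by
      rw [hS.card_tow _ (by omega), hS.card_tow _ (by omega)]; ring)
    have := (ha.congr hs (b := 1) (by rw [show i + 2 = p - 1 by omega]; exact h1)) g' hgT
    simpa [hd, g'] using this
  have hdp : (d : G) ^ p = 1 := by
    obtain ⟨r, hr⟩ := (hS.sec_top (k := i) (by omega)).exists_zpow (hS.le_tow i he)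
      (fun h => he' h.2) hdK
    rw [show (d : G) = e ^ r * ((e ^ r)⁻¹ * (d : G)) by group]
    exact CfsgLib.FGSA.MaxClassPow.torsion_prod hS.pG hTbot (zpow_mem (hS.le_tow _ he) r)
      ((inf_le_left.trans le_normalizer : bb E i ≤ (tow E (i + 1))) hr) (hS.expE _ (zpow_mem he r))
      (hexp _ (hbi.le hr))
  have hfix : δ (g' ^ p) = g' ^ p := by
    refine Subtype.ext ?_
    rw [map_pow, show δ g' = g' * d by rw [hd]; group, SubgroupClass.coe_pow, SubgroupClass.coe_pow,
      Subgroup.coe_mul, CfsgLib.FGSA.MaxClassPow.pow_mul_eq hS.pG hTbot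
        (fun c hc => hexp c (hTd hc)) hgT d.2, hdp, mul_one]
  have hgZ : g ^ p ∈ cc E := by
    rw [hcc, hS.center_eq]
    have := CfsgLib.FGSA.MaxClassPow.pow_mem h3 j hj1 hS.pG hS.cardG (by omega) hS.max g hg
    rwa [show j + p - 1 = n - 2 by omega] at this
  have hg1 : g ^ p ≠ 1 := fun h =>
    CfsgLib.FGSA.MaxClassPow.pow_not_mem h3 j hj1 hS.pG hS.cardG (by omega) hS.max g hg hg'
      (h ▸ one_mem _)
  refine hL 1 le_rfl (by omega) ?_
  rw [pow_one]
  refine (sec_of_card (p := p) hS.pG (bot_le : (⊥ : Subgroup G) ≤ cc E)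
    (by simp [hS.cc_facts.1])).dvd_of_zpow_mem hgZ (by simpa using hg1) ?_
  have := hw 0 (by omega) (g' ^ p) (by simpa [fl, g'] using hgZ)
  rw [hfix] at this
  simp only [fl, wt, mem_bot, inv_mul_eq_one] at this
  rw [mem_bot, zpow_sub, zpow_one]
  rw [show ((g' ^ p : (tow E (i + 1))) : G) = g ^ p from rfl] at this
  rw [this, mul_inv_cancel]

/-- A soft subgroup of order `p ^ 3` in a group of maximal class admits no such weights. -/
theorem absurd_system (hA : IsSys p E A) (h0 : ∀ L μ : ℤ, (p : ℤ) ∣ L * μ - 1 → St A E L μ 0) :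
    False := by
  obtain ⟨L, μ, hμ, h1, hL⟩ := exists_root p
  by_cases hcc : cc E = center G
  · rcases Nat.lt_or_ge n (p + 2) with h | h
    · exact hS.final_small hA hμ hL (h0 L μ hμ) hcc (by omega)
    · exact hS.final_large hA hμ h1 hL (h0 L μ hμ) hcc h
  · exact hS.final_exceptional hA hμ h1 hL (h0 L μ hμ) hcc

end Setup

end CfsgLib.MaxClassEss
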