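import Cfsg.Agent.Fusion.Alperin
import Cfsg.Agent.Fusion.TransvectionCentre
import Cfsg.Agent.Solvable.PGroupBasic

/-!
Automorphism groups of an elementary abelian group of order `p ^ 3` with a strongly embedded
subgroup and a Sylow subgroup fixing a point.
-/

set_option autoImplicit false
set_option linter.unusedSectionVars false

open Subgroup

namespace CfsgLib.MaxClassEss

universe u

variable {E : Type u} [CommGroup E] [Finite E] {p : ℕ} [hp : Fact p.Prime]

/-- An endomorphism of a group of prime order with an iterate of `p`-power order equal to the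
identity is the identity. -/
theorem hom_eq_self {Q : Type u} [Group Q] (hQ : Nat.card Q = p) (f : Q →* Q) {k : ℕ}
    (hf : ∀ x, f^[p ^ k] x = x) (x : Q) : f x = x := by
  by_cases hx : x = 1
  · rw [hx, map_one]
  obtain ⟨a, ha⟩ := mem_zpowers_iff.1 (mem_zpowers_of_prime_card hQ hx (g' := f x))
  have h : ∀ j : ℕ, f^[j] x = x ^ (a ^ j) := fun j => by
    induction j with
    | zero => simp
    | succ j ih =>
      rw [Function.iterate_succ_apply', ih, map_zpow, ← ha, ← zpow_mul, pow_succ']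
  have h1 : x ^ (a ^ (p ^ k) - 1) = 1 := by
    rw [zpow_sub, ← h, hf, zpow_one, mul_inv_cancel]
  have hco : orderOf x = p := orderOf_eq_prime (by
    have : Finite Q := Nat.finite_of_card_ne_zero (hQ ▸ hp.out.ne_zero)
    rw [← hQ, pow_card_eq_one']) hx
  have h2 := orderOf_dvd_iff_zpow_eq_one.2 h1
  rw [hco] at h2
  have h3 : (p : ℤ) ∣ a - 1 := by
    rw [← ZMod.intCast_zmod_eq_zero_iff_dvd] at h2 ⊢
    push_cast at h2 ⊢
    rwa [ZMod.pow_card_pow] at h2
  rw [← ha, ← mul_inv_eq_one, ← zpow_neg_one, ← zpow_add, ← sub_eq_add_neg]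
  rw [← orderOf_dvd_iff_zpow_eq_one, hco]
  exact h3

theorem iterate_eq (s : MulAut E) (j : ℕ) (x : E) : (s ^ j) x = (⇑s)^[j] x := by
  induction j with
  | zero => rfl
  | succ j ih => rw [pow_succ', MulAut.mul_apply, ih, Function.iterate_succ_apply']

/-- The properties of the normalizer core used below. -/
structure Emb {A : Type u} [Group A] (p : ℕ) (P : Sylow p A) (Y : Subgroup A) : Prop where
  ne_top : Y ≠ ⊤
  sep : ∀ t ∈ (P : Subgroup A), t ≠ 1 → ∀ g : A, g * t * g⁻¹ ∈ Y → g ∈ Y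
  cent : ∀ t ∈ (P : Subgroup A), t ≠ 1 → ∀ x : A, Commute t x → x ∈ Y

theorem emb_of_kGen {A : Type u} [Group A] [Finite A] {P : Sylow p A} {Y : Subgroup A}
    (hP : Cfsg.kGeneratedCore p 1 (P : Subgroup A) ≤ Y) (hne : (P : Subgroup A) ≠ ⊥) (hY : Y ≠ ⊤) :
    Emb p P Y := by
  have hPY := CfsgLib.Fusion.sylow_le_of_kGen p hP hne
  have hN := CfsgLib.Fusion.normalizer_le_of_kGen p hP hne P.2 hPY hne
  refine ⟨hY, fun t ht ht1 g hg => ?_, fun t ht ht1 x hx => ?_⟩
  · have hz : IsPGroup p (zpowers (g * t * g⁻¹)) :=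
      (P.2.map (MulAut.conj g).toMonoidHom).to_le (zpowers_le.2 ⟨t, ht, by simp⟩)
    obtain ⟨y, hy, hyt⟩ := CfsgLib.Fusion.SylowIn.exists_conj_le
      (⟨hPY, P.subtype hPY, rfl⟩ : CfsgLib.Fusion.SylowIn p (P : Subgroup A) Y) hz (zpowers_le.2 hg)
    suffices h : y * g ∈ Y by simpa using Y.mul_mem (Y.inv_mem hy) h
    set k := y * g
    have hkt : k * t * k⁻¹ ∈ (P : Subgroup A) := by
      have := hyt _ (mem_zpowers _)
      simpa [k, mul_assoc] using this
    have hle : (P : Subgroup A).map (MulAut.conj k).toMonoidHom ≤ Y := by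
      refine CfsgLib.Fusion.pSubgroup_le_of_kGen p hP hne (P.2.map _) ⟨t, ht, rfl⟩
        (by simpa using hkt) ?_
      simpa using ht1
    obtain ⟨w, hw, hwP⟩ := CfsgLib.Fusion.SylowIn.exists_conj_le
      (⟨hPY, P.subtype hPY, rfl⟩ : CfsgLib.Fusion.SylowIn p (P : Subgroup A) Y) (P.2.map _) hle
    have hmem : w * k ∈ normalizer ((P : Subgroup A) : Set A) := by
      have h1 : (P : Subgroup A).map (MulAut.conj (w * k)).toMonoidHom = (P : Subgroup A) := by
        refine eq_of_le_of_card_ge ?_ (card_map_of_injective (MulAut.conj _).injective).ge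
        rintro _ ⟨v, hv, rfl⟩
        simpa [mul_assoc] using hwP _ ⟨v, hv, rfl⟩
      rw [mem_normalizer_iff]
      intro v
      constructor
      · intro hv
        rw [← h1]
        exact ⟨v, hv, by simp [mul_assoc]⟩
      · intro hv
        rw [← h1] at hv
        obtain ⟨u, hu, he⟩ := hv
        have e : MulAut.conj (w * k) u = MulAut.conj (w * k) v := by
          simpa [mul_assoc] using he
        rwa [← (MulAut.conj (w * k)).injective e]
    simpa using Y.mul_mem (Y.inv_mem hw) (hN hmem)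
  · refine CfsgLib.Fusion.normalizer_le_of_kGen p hP hne (P.2.to_le (zpowers_le.2 ht))
      (zpowers_le.2 (hPY ht)) (by simpa using ht1) (centralizer_le_normalizer _ ?_)
    refine mem_centralizer_iff.2 fun w hw => ?_
    obtain ⟨i, rfl⟩ := mem_zpowers_iff.1 hw
    exact (hx.zpow_left i).eq

theorem Emb.congr {A B : Type u} [Group A] [Group B] (e : A ≃* B) {P : Sylow p A} {Q : Sylow p B}
    {Y : Subgroup A} (h : Emb p P Y)
    (hQ : (Q : Subgroup B) = (P : Subgroup A).map e.toMonoidHom) :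
    Emb p Q (Y.map e.toMonoidHom) := by
  have hm : ∀ (K : Subgroup A) (b : B), b ∈ K.map e.toMonoidHom ↔ e.symm b ∈ K := fun K b =>
    mem_map_equiv (f := e)
  refine ⟨fun h0 => h.ne_top ?_, fun t ht ht1 g hg => ?_, fun t ht ht1 x hx => ?_⟩
  · exact (eq_top_iff' Y).2 fun a => by simpa using (hm Y (e a)).1 (h0 ▸ mem_top _)
  · rw [hQ, hm] at ht
    rw [hm] at hg ⊢
    exact h.sep _ ht (by simpa using ht1) _ (by simpa using hg)
  · rw [hQ, hm] at ht
    rw [hm]
    exact h.cent _ ht (by simpa using ht1) _ (hx.map e.symm)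

/-- A shear in `P`: fixed subgroup `W₀` of index `p`, centre `c`. -/
structure IsShear (p : ℕ) {A : Subgroup (MulAut E)} (P : Subgroup A) (t : A) (W₀ : Subgroup E)
    (c : E) : Prop where
  mem : t ∈ P
  ne : t ≠ 1
  fix : ∀ x, (t : MulAut E) x = x ↔ x ∈ W₀
  disp : ∀ x, x⁻¹ * (t : MulAut E) x ∈ zpowers c
  centre : c ∈ W₀
  ordc : orderOf c = p
  card : Nat.card W₀ = p ^ 2

variable {A : Subgroup (MulAut E)} {P : Sylow p A} {Y : Subgroup A}

theorem IsShear.mem_shear {t : A} {W₀ : Subgroup E} {c : E}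
    (ht : IsShear p (P : Subgroup A) t W₀ c) : (t : MulAut E) ∈ TransvectionCentre.shear A c :=
  ⟨t.2, (ht.fix c).2 ht.centre, ht.disp⟩

/-- Outside `Y`, the centre leaves the fixed subgroup. -/
theorem centre_not_mem (hY : Emb p P Y) {t : A} {W₀ : Subgroup E} {c : E}
    (ht : IsShear p (P : Subgroup A) t W₀ c) {g : A} (hg : g ∉ Y) : (g : MulAut E) c ∉ W₀ := by
  intro ha
  refine hg (hY.sep t ht.mem ht.ne g ?_)
  set u := g * t * g⁻¹ with hu
  have hts := ht.mem_shear
  have hus : (u : MulAut E) ∈ TransvectionCentre.shear A ((g : MulAut E) c) := by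
    simpa [hu] using TransvectionCentre.conj_shear hts g.2
  -- `q` is a shear commuting with `t`
  set q := u * t * u⁻¹ with hq
  have hqs : (q : MulAut E) ∈ TransvectionCentre.shear A ((u : MulAut E) c) := by
    simpa [hq] using TransvectionCentre.conj_shear hts u.2
  have h1 : (t : MulAut E) ((u : MulAut E) c) = (u : MulAut E) c := by
    obtain ⟨n, hn⟩ := TransvectionCentre.exists_zpow hus c
    rw [ht.fix, hn]
    exact mul_mem ht.centre (zpow_mem ha n)
  have h2 : (q : MulAut E) c = c := by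
    obtain ⟨n, hn⟩ := TransvectionCentre.exists_zpow (inv_mem hus) c
    have h3 : (t : MulAut E) ((u : MulAut E)⁻¹ c) = (u : MulAut E)⁻¹ c := by
      rw [ht.fix, hn]
      exact mul_mem ht.centre (zpow_mem ha n)
    simp only [hq, Subgroup.coe_mul, Subgroup.coe_inv, MulAut.mul_apply, h3, MulAut.apply_inv_self]
  have hc : Commute t q := Subtype.ext
    (TransvectionCentre.shear_commute hts hqs h1 h2 : Commute (t : MulAut E) (q : MulAut E))
  exact hY.sep t ht.mem ht.ne u (hY.cent t ht.mem ht.ne q hc)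

theorem exists_not_mem (hY : Emb p P Y) : ∃ g : A, g ∉ Y := by
  by_contra h
  push Not at h
  exact hY.ne_top ((eq_top_iff' _).2 h)

/-- A Sylow subgroup containing a central shear has order at most `p`. -/
theorem card_le (hcard : Nat.card E = p ^ 3) (hY : Emb p P Y) {t : A} {W₀ : Subgroup E} {c : E}
    (ht : IsShear p (P : Subgroup A) t W₀ c) (hcen : ∀ s ∈ (P : Subgroup A), Commute s t) :
    Nat.card (P : Subgroup A) ≤ p := by
  by_contra hlt
  obtain ⟨g, hg⟩ := exists_not_mem hY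
  set a := (g : MulAut E) c with ha
  have haW : a ∉ W₀ := centre_not_mem hY ht hg
  set W₁ := W₀.map (g : MulAut E).toMonoidHom with hW₁
  have hW₁m : ∀ x, x ∈ W₁ ↔ (g : MulAut E)⁻¹ x ∈ W₀ := fun x => mem_map_equiv (f := (g : MulAut E))
  have haW₁ : a ∈ W₁ := ⟨c, ht.centre, rfl⟩
  have key : ∀ s ∈ (P : Subgroup A), s ≠ 1 → (s : MulAut E) a ∉ W₁ := by
    intro s hs hs1 h
    rw [hW₁m] at h
    refine centre_not_mem hY ht (g := g⁻¹ * s * g) (fun hmem => hg ?_) (by simpa [ha] using h)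
    have : g⁻¹ * s * g⁻¹⁻¹ ∈ Y := by simpa using hmem
    simpa using Y.inv_mem (hY.sep s hs hs1 g⁻¹ this)
  have hidx : W₀.index = p := by
    have := W₀.card_mul_index
    rw [ht.card, hcard, pow_succ p 2] at this
    exact Nat.eq_of_mul_eq_mul_left (pow_pos hp.out.pos 2) this
  -- `P` is trivial modulo `W₀`
  have htriv : ∀ s ∈ (P : Subgroup A), ∀ x : E, x⁻¹ * (s : MulAut E) x ∈ W₀ := by
    intro s hs x
    have hinv : W₀ ≤ W₀.comap (s : MulAut E).toMonoidHom := fun w hw => by
      show (s : MulAut E) w ∈ W₀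
      rw [← ht.fix]
      have := congrArg (fun v : A => (v : MulAut E) w) (hcen s hs).eq
      simp only [Subgroup.coe_mul, MulAut.mul_apply, (ht.fix w).2 hw] at this
      exact this.symm
    let f : E ⧸ W₀ →* E ⧸ W₀ := QuotientGroup.map W₀ W₀ _ hinv
    obtain ⟨k, hk⟩ := P.2 ⟨s, hs⟩
    have hk' : (s : MulAut E) ^ p ^ k = 1 := by
      simpa using congrArg (fun v : (P : Subgroup A) => ((v : A) : MulAut E)) hk
    have hit : ∀ (j : ℕ) (y : E), f^[j] (y : E ⧸ W₀) = (((⇑(s : MulAut E))^[j] y : E) : E ⧸ W₀) := by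
      intro j
      induction j with
      | zero => intro y; rfl
      | succ j ih => intro y; rw [Function.iterate_succ_apply', ih, Function.iterate_succ_apply']; rfl
    have := hom_eq_self (hidx ▸ (Subgroup.index_eq_card W₀).symm) f (k := k) (fun y => by
      obtain ⟨y, rfl⟩ := QuotientGroup.mk_surjective y
      rw [hit, ← iterate_eq, hk', MulAut.one_apply]) (x : E ⧸ W₀)
    exact QuotientGroup.eq.1 this.symm
  let f : ↥(P : Subgroup A) → W₀ := fun s => ⟨_, htriv s s.2 a⟩
  have hf : Function.Injective f := by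
    intro s s' h
    have h1 : ((s : A) : MulAut E) a = ((s' : A) : MulAut E) a :=
      mul_left_cancel (congrArg Subtype.val h)
    by_contra hne
    refine key ((s'⁻¹ * s : (P : Subgroup A)) : A) (s'⁻¹ * s).2 (fun he => hne ?_) ?_
    · exact (inv_mul_eq_one.1 (Subtype.ext he : s'⁻¹ * s = 1)).symm
    · simpa [h1] using haW₁
  have hbij : Function.Bijective f := by
    refine hf.bijective_of_nat_card_le ?_
    rw [ht.card]
    obtain ⟨k, hk⟩ := IsPGroup.iff_card.1 P.2
    rw [hk] at hlt ⊢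
    refine Nat.pow_le_pow_right hp.out.pos ?_
    by_contra h
    refine hlt ?_
    calc p ^ k ≤ p ^ 1 := Nat.pow_le_pow_right hp.out.pos (by omega)
      _ = p := pow_one p
  obtain ⟨w, hw, hw1⟩ := (bot_or_exists_ne_one (W₀ ⊓ W₁)).resolve_left (fun h => by
    have h1 := Subgroup.inf_relIndex_left W₀ W₁
    rw [h, relIndex_bot_left, ht.card] at h1
    have h2 : W₁.relIndex W₀ ∣ W₁.index := relIndex_dvd_index_of_normal W₁ W₀
    rw [← h1, hW₁, index_map_of_bijective (g : MulAut E).bijective, hidx] at h2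
    have := Nat.le_of_dvd hp.out.pos h2
    nlinarith [hp.out.one_lt])
  obtain ⟨s, hs⟩ := hbij.2 ⟨w, hw.1⟩
  have hsa : ((s : A) : MulAut E) a = a * w := by
    have := congrArg Subtype.val hs
    simp only [f] at this
    rw [← this, mul_inv_cancel_left]
  refine key s s.2 (fun he => hw1 ?_) (hsa ▸ mul_mem haW₁ hw.2)
  have := hsa
  rw [he] at this
  simpa using this

/-- If `P` has order at least `p ^ 2` and fixes `z ≠ 1`, it contains a central shear. -/
theorem exists_shear (hcard : Nat.card E = p ^ 3) (hexp : ∀ x : E, x ^ p = 1) {z : E} (hz1 : z ≠ 1)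
    (hz : ∀ s ∈ (P : Subgroup A), (s : MulAut E) z = z)
    (hbig : p ^ 2 ≤ Nat.card (P : Subgroup A)) :
    ∃ (t : A) (W₀ : Subgroup E) (c : E), IsShear p (P : Subgroup A) t W₀ c ∧
      ∀ s ∈ (P : Subgroup A), Commute s t := by
  classical
  have : Finite (MulAut E) :=
    Finite.of_injective (fun e : MulAut E => (e : E → E)) DFunLike.coe_injective
  set Z := zpowers z with hZ
  have hzo : orderOf z = p := orderOf_eq_prime (hexp z) hz1
  have hZc : Nat.card Z = p := by rw [hZ, Nat.card_zpowers, hzo]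
  have hZfix : ∀ s ∈ (P : Subgroup A), ∀ w ∈ Z, (s : MulAut E) w = w := by
    rintro s hs w ⟨i, rfl⟩
    simp [hz s hs]
  letI : MulAction (P : Subgroup A) (E ⧸ Z) :=
    { smul := fun s => QuotientGroup.map Z Z ((s : A) : MulAut E).toMonoidHom
        fun w hw => show ((s : A) : MulAut E) w ∈ Z by rw [hZfix s s.2 w hw]; exact hw
      one_smul := fun q => QuotientGroup.induction_on q fun x => rfl
      mul_smul := fun s r q => QuotientGroup.induction_on q fun x => rfl }
  have hsmul : ∀ (s : (P : Subgroup A)) (x : E),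
      s • (x : E ⧸ Z) = ((((s : A) : MulAut E) x : E) : E ⧸ Z) := fun _ _ => rfl
  have hQc : Nat.card (E ⧸ Z) = p ^ 2 := by
    have := Subgroup.card_eq_card_quotient_mul_card_subgroup Z
    rw [hcard, hZc, pow_succ p 2] at this
    exact (Nat.eq_of_mul_eq_mul_right hp.out.pos this).symm
  obtain ⟨b, hb, hb1⟩ := P.2.exists_fixed_point_of_prime_dvd_card_of_fixed_point (E ⧸ Z)
    (hQc ▸ dvd_pow_self p two_ne_zero) (a := ((1 : E) : E ⧸ Z))
    (fun s => by rw [hsmul, map_one])
  obtain ⟨w₁, rfl⟩ := QuotientGroup.mk_surjective b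
  set L := zpowers (w₁ : E ⧸ Z) with hL
  have hLc : Nat.card L = p := by
    rw [hL, Nat.card_zpowers]
    exact orderOf_eq_prime (by rw [← QuotientGroup.mk_pow, hexp, QuotientGroup.mk_one])
      (fun h => hb1 (by rw [h]; rfl))
  obtain ⟨q, hq⟩ : ∃ q : E ⧸ Z, q ∉ L := by
    by_contra h
    push Not at h
    rw [(eq_top_iff' _).2 h, card_top, hQc] at hLc
    nlinarith [hp.out.one_lt]
  obtain ⟨q₀, rfl⟩ := QuotientGroup.mk_surjective q
  have hLi : L.index = p := by
    have := L.card_mul_index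
    rw [hLc, hQc, sq] at this
    exact Nat.eq_of_mul_eq_mul_left hp.out.pos this
  -- each element moves `q₀` inside the fixed line
  have hmove : ∀ s : (P : Subgroup A), ((q₀ : E ⧸ Z))⁻¹ * s • (q₀ : E ⧸ Z) ∈ L := by
    intro s
    let σ : E ⧸ Z →* E ⧸ Z := QuotientGroup.map Z Z ((s : A) : MulAut E).toMonoidHom
      fun w hw => show ((s : A) : MulAut E) w ∈ Z by rw [hZfix s s.2 w hw]; exact hw
    have hσL : L ≤ L.comap σ := zpowers_le.2 (show σ (w₁ : E ⧸ Z) ∈ L from by
      rw [show σ (w₁ : E ⧸ Z) = s • (w₁ : E ⧸ Z) from rfl, hb s]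
      exact mem_zpowers _)
    let f : (E ⧸ Z) ⧸ L →* (E ⧸ Z) ⧸ L := QuotientGroup.map L L σ hσL
    obtain ⟨k, hk⟩ := P.2 s
    have hit : ∀ (j : ℕ) (y : E ⧸ Z), f^[j] (y : (E ⧸ Z) ⧸ L) = ((s ^ j • y : E ⧸ Z) : (E ⧸ Z) ⧸ L) := by
      intro j
      induction j with
      | zero => intro y; rw [pow_zero, one_smul]; rfl
      | succ j ih => intro y; rw [Function.iterate_succ_apply', ih, pow_succ', mul_smul]; rfl
    have := hom_eq_self (hLi ▸ (Subgroup.index_eq_card L).symm) f (k := k) (fun y => by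
      obtain ⟨y, rfl⟩ := QuotientGroup.mk_surjective y
      rw [hit, hk, one_smul]) ((q₀ : E ⧸ Z) : (E ⧸ Z) ⧸ L)
    exact QuotientGroup.eq.1 this.symm
  let φ : ↥(P : Subgroup A) → L := fun s => ⟨_, hmove s⟩
  obtain ⟨s, s', hne, hss⟩ : ∃ s s', s ≠ s' ∧ φ s = φ s' := by
    by_contra h
    push Not at h
    have := Nat.card_le_card_of_injective φ (fun x y he => by_contra fun hxy => h x y hxy he)
    rw [hLc] at this
    nlinarith [hp.out.one_lt]
  -- the shears of centre `z`
  let Kz : Subgroup (P : Subgroup A) :=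
    { carrier := {r | ∀ q : E ⧸ Z, r • q = q}
      one_mem' := fun q => one_smul _ q
      mul_mem' := fun {r r'} h h' q => by rw [mul_smul, h', h]
      inv_mem' := fun {r} h q => inv_smul_eq_iff.2 (h q).symm }
  haveI : Kz.Normal := ⟨fun r hr g q => by rw [mul_smul, mul_smul, hr, smul_inv_smul]⟩
  have hKne : Kz ≠ ⊥ := by
    intro h
    refine hne (inv_mul_eq_one.1 (mem_bot.1 (h ▸ ?_ : s⁻¹ * s' ∈ (⊥ : Subgroup _))))
    have h0 : s • (q₀ : E ⧸ Z) = s' • (q₀ : E ⧸ Z) := mul_left_cancel (congrArg Subtype.val hss)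
    have h1 : (s⁻¹ * s') • (q₀ : E ⧸ Z) = q₀ := by rw [mul_smul, ← h0, inv_smul_smul]
    intro q
    let σ : E ⧸ Z →* E ⧸ Z := QuotientGroup.map Z Z (((s⁻¹ * s' : (P : Subgroup A)) : A) : MulAut E).toMonoidHom
      fun w hw => show (((s⁻¹ * s' : (P : Subgroup A)) : A) : MulAut E) w ∈ Z by
        rw [hZfix _ (s⁻¹ * s').2 w hw]; exact hw
    have htop : L ⊔ zpowers (q₀ : E ⧸ Z) = ⊤ := by
      refine index_eq_one.1 (((Nat.dvd_prime hp.out).1 (hLi ▸ index_dvd_of_le le_sup_left)).resolve_right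
        fun h2 => hq ?_)
      have : L = L ⊔ zpowers (q₀ : E ⧸ Z) := by
        refine eq_of_le_of_card_ge le_sup_left ?_
        have h3 := (L ⊔ zpowers (q₀ : E ⧸ Z)).card_mul_index
        have h4 := L.card_mul_index
        rw [hLi] at h4
        rw [h2, ← h4] at h3
        exact (Nat.eq_of_mul_eq_mul_right hp.out.pos h3).le
      rw [this]
      exact mem_sup_right (mem_zpowers _)
    have hle : (⊤ : Subgroup (E ⧸ Z)) ≤ MonoidHom.eqLocus σ (MonoidHom.id _) := by
      rw [← htop]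
      exact sup_le (zpowers_le.2 (hb (s⁻¹ * s'))) (zpowers_le.2 h1)
    exact hle (mem_top q)
  haveI := P.2.isNilpotent
  obtain ⟨t, ht, ht1⟩ := (bot_or_exists_ne_one (Kz ⊓ center (P : Subgroup A))).resolve_left
    (CfsgLib.PGroupBasic.inf_center_ne_bot Kz hKne)
  have hdisp : ∀ x : E, x⁻¹ * ((t : A) : MulAut E) x ∈ Z := fun x =>
    QuotientGroup.eq.1 (ht.1 (x : E ⧸ Z)).symm
  set τ := ((t : A) : MulAut E)
  let D : E →* E := MonoidHom.mk' (fun x => x⁻¹ * τ x) fun x y => by
    rw [map_mul, mul_inv, mul_mul_mul_comm]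
  have hker : ∀ x, x ∈ D.ker ↔ τ x = x := fun x => by
    rw [MonoidHom.mem_ker]
    show x⁻¹ * τ x = 1 ↔ _
    rw [inv_mul_eq_one, eq_comm]
  have hrange : Nat.card D.range = p := by
    have hle : D.range ≤ Z := by rintro _ ⟨x, rfl⟩; exact hdisp x
    refine ((Nat.dvd_prime hp.out).1 (hZc ▸ card_dvd_of_le hle)).resolve_left fun h1 => ht1 ?_
    refine Subtype.ext (Subtype.ext (MulEquiv.ext fun x => ?_))
    have : D x ∈ D.range := ⟨x, rfl⟩
    rw [card_eq_one.1 h1, mem_bot] at this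
    exact (hker x).1 this
  refine ⟨t, D.ker, z, ⟨t.2, fun h => ht1 (Subtype.ext h), fun x => (hker x).symm, hdisp,
    (hker z).2 (hz t t.2), hzo, ?_⟩, fun r hr => ?_⟩
  · have h := D.ker.card_mul_index
    rw [index_ker, hrange, hcard, pow_succ p 2] at h
    exact Nat.eq_of_mul_eq_mul_right hp.out.pos h
  · exact congrArg Subtype.val (mem_center_iff.1 ht.2 ⟨r, hr⟩)

/-- A Sylow subgroup fixing a point has order at most `p`. -/
theorem card_sylow_le (hcard : Nat.card E = p ^ 3) (hexp : ∀ x : E, x ^ p = 1) (hY : Emb p P Y)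
    {z : E} (hz1 : z ≠ 1) (hz : ∀ s ∈ (P : Subgroup A), (s : MulAut E) z = z) :
    Nat.card (P : Subgroup A) ≤ p := by
  by_contra hlt
  have hbig : p ^ 2 ≤ Nat.card (P : Subgroup A) := by
    have : Finite (MulAut E) :=
      Finite.of_injective (fun e : MulAut E => (e : E → E)) DFunLike.coe_injective
    obtain ⟨k, hk⟩ := IsPGroup.iff_card.1 P.2
    rw [hk] at hlt ⊢
    refine Nat.pow_le_pow_right hp.out.pos ?_
    by_contra h
    exact hlt ((Nat.pow_le_pow_right hp.out.pos (by omega)).trans (pow_one p).le)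
  obtain ⟨t, W₀, c, ht, hcen⟩ := exists_shear hcard hexp hz1 hz hbig
  exact hlt (card_le hcard hY ht hcen)

end CfsgLib.MaxClassEss
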