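import Cfsg.Agent.MaxClassEss.Auto
import Cfsg.Agent.MaxClassEss.Shear

/-!
A torus element in an automorphism group with two non-commuting conjugate shears.
-/

set_option autoImplicit false
set_option linter.unusedSectionVars false

open Subgroup

namespace CfsgLib.MaxClassEss

universe u

variable {E : Type u} [CommGroup E] [Finite E] {p : ℕ} [hp : Fact p.Prime]
  {A : Subgroup (MulAut E)} {P : Sylow p A} {Y : Subgroup A}

theorem zpow_eq_of_dvd (hexp : ∀ x : E, x ^ p = 1) (x : E) {m n : ℤ} (h : (p : ℤ) ∣ m - n) :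
    x ^ m = x ^ n := by
  obtain ⟨k, hk⟩ := h
  rw [show m = (p : ℤ) * k + n by omega, zpow_add, zpow_mul, zpow_natCast, hexp, one_zpow, one_mul]

/-- A power of a shear moving a given point by a given power of the centre. -/
theorem exists_translate (hexp : ∀ x : E, x ^ p = 1) {t : A} {W₀ : Subgroup E} {c : E}
    (ht : IsShear p (P : Subgroup A) t W₀ c) {x : E} (hx : x ∉ W₀) (n : ℤ) :
    ∃ T : A, (T : MulAut E) c = c ∧ (∀ w ∈ W₀, (T : MulAut E) w = w) ∧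
      (T : MulAut E) x = x * c ^ n := by
  obtain ⟨κ, hκ⟩ := TransvectionCentre.exists_zpow ht.mem_shear x
  have hc : (t : MulAut E) c = c := (ht.fix c).2 ht.centre
  have hκp : ((κ : ℤ) : ZMod p) ≠ 0 := by
    intro h
    rw [ZMod.intCast_zmod_eq_zero_iff_dvd] at h
    refine hx ((ht.fix x).1 ?_)
    rw [hκ, zpow_eq_of_dvd hexp c (n := 0) (by simpa using h), zpow_zero, mul_one]
  set j := ((n : ZMod p) * ((κ : ZMod p))⁻¹).val with hj
  have hpow : ∀ i : ℕ, ((t : MulAut E) ^ i) x = x * c ^ ((i : ℤ) * κ) ∧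
      ((t : MulAut E) ^ i) c = c ∧ ∀ w ∈ W₀, ((t : MulAut E) ^ i) w = w := by
    intro i
    induction i with
    | zero => simp
    | succ i ih =>
      refine ⟨?_, ?_, fun w hw => ?_⟩
      · rw [pow_succ', MulAut.mul_apply, ih.1, map_mul, map_zpow, hκ, hc, mul_assoc, ← zpow_add]
        congr 2
        push_cast
        ring
      · rw [pow_succ', MulAut.mul_apply, ih.2.1, hc]
      · rw [pow_succ', MulAut.mul_apply, ih.2.2 w hw, (ht.fix w).2 hw]
  refine ⟨t ^ j, by simpa using (hpow j).2.1, fun w hw => by simpa using (hpow j).2.2 w hw, ?_⟩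
  rw [show ((t ^ j : A) : MulAut E) = (t : MulAut E) ^ j from rfl, (hpow j).1]
  congr 1
  refine zpow_eq_of_dvd hexp c ?_
  rw [← ZMod.intCast_zmod_eq_zero_iff_dvd]
  push_cast
  rw [hj, ZMod.natCast_zmod_val, mul_assoc, inv_mul_cancel₀ hκp, mul_one, sub_self]

/-- An element acting as `L` on the centre, trivially on `W₀ / ⟨c⟩` and as `L⁻¹` on `E / W₀`. -/
theorem exists_torus (hcard : Nat.card E = p ^ 3) (hexp : ∀ x : E, x ^ p = 1) (hY : Emb p P Y)
    {t : A} {W₀ : Subgroup E} {c : E} (ht : IsShear p (P : Subgroup A) t W₀ c) {L μ : ℤ}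
    (hμ : (p : ℤ) ∣ L * μ - 1) :
    ∃ h : A, (h : MulAut E) c = c ^ L ∧ (∀ w ∈ W₀, w⁻¹ * (h : MulAut E) w ∈ zpowers c) ∧
      ∀ x : E, (x ^ μ)⁻¹ * (h : MulAut E) x ∈ W₀ := by
  obtain ⟨g, hg⟩ := exists_not_mem hY
  have hg' : g⁻¹ ∉ Y := fun h => hg (by simpa using Y.inv_mem h)
  set a := (g : MulAut E) c with ha
  have haW : a ∉ W₀ := centre_not_mem hY ht hg
  have hcW : (g : MulAut E)⁻¹ c ∉ W₀ := centre_not_mem hY ht hg'
  set W₁ := W₀.map (g : MulAut E).toMonoidHom with hW₁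
  have hW₁m : ∀ x, x ∈ W₁ ↔ (g : MulAut E)⁻¹ x ∈ W₀ := fun x => mem_map_equiv (f := (g : MulAut E))
  have hX : ∀ n : ℤ, ∃ T : A, (T : MulAut E) c = c ∧ (∀ w ∈ W₀, (T : MulAut E) w = w) ∧
      (T : MulAut E) a = a * c ^ n := fun n => exists_translate hexp ht haW n
  have hU : ∀ n : ℤ, ∃ U : A, (U : MulAut E) a = a ∧ (∀ w ∈ W₁, (U : MulAut E) w = w) ∧
      (U : MulAut E) c = c * a ^ n := by
    intro n
    obtain ⟨T, hTc, hTW, hTx⟩ := exists_translate hexp ht hcW n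
    refine ⟨g * T * g⁻¹, ?_, fun w hw => ?_, ?_⟩
    · simp [ha, hTc]
    · simp only [Subgroup.coe_mul, Subgroup.coe_inv, MulAut.mul_apply]
      rw [hTW _ ((hW₁m w).1 hw), MulAut.apply_inv_self]
    · simp only [Subgroup.coe_mul, Subgroup.coe_inv, MulAut.mul_apply, hTx, map_mul, map_zpow,
        MulAut.apply_inv_self, ← ha]
  have hW : ∀ l m : ℤ, (p : ℤ) ∣ l * m - 1 → ∃ w : A, (w : MulAut E) a = c ^ l ∧
      (w : MulAut E) c = a ^ (-m) ∧ ∀ v ∈ W₀ ⊓ W₁, (w : MulAut E) v = v := by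
    intro l m hlm
    obtain ⟨T, hTc, hTW, hTa⟩ := hX l
    obtain ⟨U, hUa, hUW, hUc⟩ := hU (-m)
    have h1 : (-m) * l = -(l * m) := by ring
    refine ⟨T * U * T, ?_, ?_, fun v hv => by simp [hTW v hv.1, hUW v hv.2]⟩
    · simp only [Subgroup.coe_mul, MulAut.mul_apply, hTa, map_mul, map_zpow, hUa, hUc, mul_zpow,
        hTc, ← zpow_mul]
      rw [zpow_eq_of_dvd hexp a (m := -m * l) (n := -1) (by
          rw [h1, show -(l * m) - -1 = -(l * m - 1) by ring]; exact dvd_neg.2 hlm),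
        zpow_eq_of_dvd hexp c (m := l * -m * l) (n := -l) (by
          rw [show l * -m * l - -l = -(l * (l * m - 1)) by ring]
          exact dvd_neg.2 (Dvd.dvd.mul_left hlm l))]
      simp [mul_comm, mul_left_comm]
    · simp only [Subgroup.coe_mul, MulAut.mul_apply, hTc, hUc, map_mul, map_zpow, hTa, mul_zpow,
        ← zpow_mul]
      rw [zpow_eq_of_dvd hexp c (m := l * -m) (n := -1) (by
          rw [show l * -m - -1 = -(l * m - 1) by ring]; exact dvd_neg.2 hlm)]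
      simp [mul_left_comm]
  obtain ⟨w₁, hw₁a, hw₁c, hw₁f⟩ := hW L μ hμ
  obtain ⟨w₂, hw₂a, hw₂c, hw₂f⟩ := hW (-1) (-1) (by simp)
  set h := w₁ * w₂
  have hhc : (h : MulAut E) c = c ^ L := by
    simp [h, hw₂c, hw₁a]
  have hha : (h : MulAut E) a = a ^ μ := by
    simp [h, hw₂a, hw₁c]
  have hhf : ∀ v ∈ W₀ ⊓ W₁, (h : MulAut E) v = v := fun v hv => by
    simp [h, hw₂f v hv, hw₁f v hv]
  have hidx : ∀ K : Subgroup E, Nat.card K = p ^ 2 → Sec p ⊤ K := fun K hK =>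
    sec_of_card (IsPGroup.of_card hcard) le_top (by rw [card_top, hcard, hK]; ring)
  have hW₁c : Nat.card W₁ = p ^ 2 := by
    rw [hW₁, card_map_of_injective (g : MulAut E).injective, ht.card]
  have hcW₁ : c ∉ W₁ := fun hh => hcW ((hW₁m c).1 hh)
  have hmem : ∀ w ∈ W₀, w⁻¹ * (h : MulAut E) w ∈ zpowers c := by
    intro w hw
    obtain ⟨i, hi⟩ := (hidx W₁ hW₁c).exists_zpow (mem_top c) hcW₁ (mem_top w)
    have hmem' : (c ^ i)⁻¹ * w ∈ W₀ := mul_mem (inv_mem (zpow_mem ht.centre i)) hw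
    have hv := hhf ((c ^ i)⁻¹ * w) ⟨hmem', hi⟩
    rw [map_mul, map_inv, map_zpow, hhc, inv_mul_eq_iff_eq_mul] at hv
    refine ⟨(L - 1) * i, ?_⟩
    show c ^ ((L - 1) * i) = _
    rw [hv, sub_mul, one_mul, zpow_sub, zpow_mul, mul_left_comm w⁻¹, mul_comm ((c ^ i)⁻¹) w,
      inv_mul_cancel_left]
  refine ⟨h, hhc, hmem, fun x => ?_⟩
  obtain ⟨i, hi⟩ := (hidx W₀ ht.card).exists_zpow (mem_top a) haW (mem_top x)
  obtain ⟨v, hv, rfl⟩ : ∃ v ∈ W₀, x = a ^ i * v := ⟨_, hi, by simp⟩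
  have h2 : (h : MulAut E) v ∈ W₀ := by
    simpa using mul_mem hv (zpowers_le.2 ht.centre (hmem v hv))
  have e : ((a ^ i * v) ^ μ)⁻¹ * (h : MulAut E) (a ^ i * v) = (v ^ μ)⁻¹ * (h : MulAut E) v := by
    rw [map_mul, map_zpow, hha, mul_zpow, ← zpow_mul, ← zpow_mul, mul_comm μ i]
    simp [mul_comm, mul_left_comm]
  rw [e]
  exact mul_mem (inv_mem (zpow_mem hv μ)) h2

end CfsgLib.MaxClassEss
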