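import Cfsg.Agent.Fusion.CubeEssential
import Cfsg.Agent.Fusion.ShearEmbedded
import Cfsg.Agent.MaxClassEss.Finals
import Cfsg.Agent.MaxClassEss.Torus

/-!
From a fusion system to the weight argument.
-/

set_option autoImplicit false
set_option linter.unusedSectionVars false
set_option linter.style.haveILetI false
set_option maxHeartbeats 1000000

open Cfsg Cfsg.FusionSystem Subgroup CfsgLib.Fusion
open scoped commutatorElement

namespace CfsgLib.MaxClassEss

universe u

variable {Ω : Type u} [Group Ω] {S : Subgroup Ω}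

/-- The automizers read inside `S`. -/
noncomputable def autSys (F : FusionSystem S) (N : Subgroup S) : Subgroup (MulAut N) :=
  (F.autGroup (N.map S.subtype)).comap
    (MulAut.congr (N.equivMapOfInjective S.subtype S.subtype_injective)).toMonoidHom

variable {F : FusionSystem S}

theorem mem_autSys {N : Subgroup S} {Q : Subgroup Ω} (h : N.map S.subtype = Q) (e : N ≃* Q)
    (he : ∀ x : N, (e x : Ω) = ((x : S) : Ω)) {α : MulAut N} :
    α ∈ autSys F N ↔ MulAut.congr e α ∈ F.autGroup Q := by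
  subst h
  have : e = N.equivMapOfInjective S.subtype S.subtype_injective :=
    MulEquiv.ext fun x => Subtype.ext (by rw [he, coe_equivMapOfInjective_apply]; rfl)
  rw [this]
  rfl

theorem coe_mem_map {N : Subgroup S} {x : S} : (x : Ω) ∈ N.map S.subtype ↔ x ∈ N :=
  Subgroup.mem_map_iff_mem S.subtype_injective

/-- Normalizers inside `S`. -/
theorem normalizer_map [Finite S] (N : Subgroup S) :
    (normalizer (N : Set S)).map S.subtype = normalizerIn S (N.map S.subtype) := by
  refine le_antisymm ?_ ?_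
  · rintro _ ⟨g, hg, rfl⟩
    refine ⟨g.2, mem_normalizer_of_conj_mem (map_subtype_le N) ?_⟩
    rintro _ ⟨x, hx, rfl⟩
    exact ⟨g * x * g⁻¹, (mem_normalizer_iff.1 hg x).1 hx, rfl⟩
  · intro g hg
    refine ⟨⟨g, hg.1⟩, mem_normalizer_of_map_le fun x hx => coe_mem_map.1 ?_, rfl⟩
    exact (mem_normalizer_iff.1 hg.2 _).1 (coe_mem_map.2 hx)

theorem card_normalizerIn_map [Finite S] (N : Subgroup S) :
    Nat.card (normalizerIn S (N.map S.subtype)) = Nat.card (normalizer (N : Set S)) := by
  rw [← normalizer_map, card_map_of_injective S.subtype_injective]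

variable [Finite S] {p : ℕ} [hp : Fact p.Prime]

/-- The automizer of the subgroup, transported to a group with a normalizer core. -/
theorem exists_emb (hS : IsPGroup p S) (hF : F.IsSaturated p) {E : Subgroup Ω}
    (hE : F.IsEssential p E) (hab : ∀ a b : E, a * b = b * a) :
    ∃ (R : Sylow p (F.autGroup E)) (Y : Subgroup (F.autGroup E)), Emb p R Y ∧
      (R : Subgroup (F.autGroup E)) = (autInducedBy S E).subgroupOf (F.autGroup E) := by
  obtain ⟨hc, hEn, hn, Y, hpd, hY, P, hP⟩ := hE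
  have := finite_of_le hc.1
  have : Finite (MulAut E) := finite_mulAut
  obtain ⟨-, R, hR⟩ := (good_of_fullyNormalized p hS hF hEn).1
  have hinn : (Inn E).subgroupOf (F.autGroup E) = ⊥ := by
    refine eq_bot_iff.2 ?_
    rintro α ⟨q, hq⟩
    refine Subgroup.mem_bot.2 (Subtype.ext (MulEquiv.ext fun x => ?_))
    rw [show ((α : F.autGroup E) : MulAut E) = MulAut.conj q from hq.symm, MulAut.conj_apply,
      hab q x, mul_inv_cancel_right]
    rfl
  haveI := hn
  let e : (F.autGroup E ⧸ (Inn E).subgroupOf (F.autGroup E)) ≃* F.autGroup E :=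
    (QuotientGroup.quotientMulEquivOfEq hinn).trans QuotientGroup.quotientBot
  have h0 : Emb p P Y := emb_of_kGen hP (P.ne_bot_of_dvd_card hpd) hY
  let P1 := P.mapSurjective (f := e.toMonoidHom) e.surjective
  have h1 : Emb p P1 (Y.map e.toMonoidHom) :=
    h0.congr e (Sylow.coe_mapSurjective (f := e.toMonoidHom) e.surjective P)
  obtain ⟨g, hg⟩ := MulAction.exists_smul_eq (F.autGroup E) P1 R
  have hRc : (R : Subgroup (F.autGroup E)) = (P1 : Subgroup _).map (MulAut.conj g).toMonoidHom := by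
    rw [← hg, Sylow.coe_subgroup_smul]
    rfl
  exact ⟨R, _, h1.congr (MulAut.conj g) hRc, hR⟩

/-- In order `p ^ 3` the group induced by `S` has order `p`. -/
theorem card_autInduced_eq (hS : IsPGroup p S) (hF : F.IsSaturated p) {E : Subgroup Ω}
    (hE : F.IsEssential p E) (hab : ∀ a b : E, a * b = b * a) (hcard : Nat.card E = p ^ 3)
    (hexp : ∀ x ∈ E, x ^ p = 1) : Nat.card (normalizerIn S E) = p ^ 4 := by
  have := finite_of_le hE.1.1
  have : Finite (MulAut E) := finite_mulAut
  obtain ⟨R, Y, hY, hR⟩ := exists_emb hS hF hE hab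
  letI : CommGroup E := { (inferInstance : Group E) with mul_comm := hab }
  have hRc : Nat.card (R : Subgroup (F.autGroup E)) = Nat.card (autInducedBy S E) := by
    rw [hR, Nat.card_congr (subgroupOfEquivOfLe (autInducedBy_le_autGroup hE.1.1)).toEquiv]
  have hlt := essential_lt p hS hF hE
  haveI : Nontrivial S := nontrivial_iff_ne_bot S |>.2 fun h => by
    rw [h] at hlt
    exact not_lt_bot hlt
  obtain ⟨z, hzc, hz1⟩ : ∃ z ∈ center S, z ≠ 1 :=
    (bot_or_exists_ne_one (center S)).resolve_left (nontrivial_iff_ne_bot _ |>.1 hS.center_nontrivial)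
  have hzE : (z : Ω) ∈ E := centralizer_mem_of_centric hE.1 z.2 fun x hx =>
    congrArg Subtype.val (mem_center_iff.1 hzc ⟨x, hE.1.1 hx⟩)
  have h1 := card_sylow_le hcard (fun x => Subtype.ext (hexp x x.2)) hY (z := (⟨(z : Ω), hzE⟩ : E))
    (fun h => hz1 (Subtype.ext (congrArg Subtype.val h :))) fun s hs => by
      rw [hR, mem_subgroupOf] at hs
      obtain ⟨g, hg, hgx⟩ := mem_autInducedBy.1 hs
      refine Subtype.ext ?_
      rw [hgx]
      show g * (z : Ω) * g⁻¹ = z
      rw [show g * (z : Ω) = (z : Ω) * g from congrArg Subtype.val (mem_center_iff.1 hzc ⟨g, hg⟩),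
        mul_inv_cancel_right]
  rw [hRc] at h1
  have h2 := card_autInduced hE.1 hab hE.1.1 le_rfl
  obtain ⟨g, hg, hgE⟩ := SetLike.exists_of_lt (lt_normalizerIn p hS le_rfl hlt)
  obtain ⟨k, hk⟩ := IsPGroup.iff_card.1 (isPGroup_autInducedBy hS E)
  have hk1 : k ≠ 0 := fun h => by
    rw [h, pow_zero] at hk
    rw [hk, one_mul] at h2
    refine hgE ?_
    rw [eq_of_le_of_card_le (normalizerIn_le_S E) (le_normalizerIn hE.1.1) h2.le]
    exact hg
  have hk2 : Nat.card (autInducedBy S E) = p := by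
    refine le_antisymm h1 ?_
    rw [hk]
    exact Nat.le_self_pow hk1 p
  rw [h2, hk2, hcard, ← pow_succ']

section System

variable {E : Subgroup Ω} (hS : IsPGroup p S) (hcen : F.IsCentric E) (hfn : F.IsFullyNormalized E)
  (hab : ∀ a b : E, a * b = b * a) (hcard : Nat.card E = p ^ 3)
  (hN : Nat.card (normalizerIn S E) = p ^ 4)

include hS hcen hfn hab hcard hN

/-- Conjugates of `E` are soft in `S`. -/
theorem soft_of_conj {E₁ : Subgroup Ω} (h : F.IsConj E E₁) :
    CfsgLib.Soft.IsSoft p (E₁.subgroupOf S) := by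
  have hE₁ := IsConj.le_right h
  have hc₁ : Nat.card (E₁.subgroupOf S) = p ^ 3 := by
    rw [Nat.card_congr (subgroupOfEquivOfLe hE₁).toEquiv, IsConj.card_eq h, hcard]
  refine ⟨?_, fun x hx => ?_, ?_⟩
  · obtain ⟨φ, hφ, rfl⟩ := h
    rintro x ⟨a, ha⟩ y ⟨b, hb⟩
    apply Subtype.ext
    change φ a = (x : Ω) at ha
    change φ b = (y : Ω) at hb
    rw [Subgroup.coe_mul, Subgroup.coe_mul, ← ha, ← hb, ← map_mul, hab a b, map_mul]
  · exact mem_subgroupOf.2 (hcen.2 E₁ h (mem_centralizerIn.2 ⟨x.2, fun a ha =>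
      congrArg Subtype.val (mem_centralizer_iff.1 hx ⟨a, hE₁ ha⟩ (mem_subgroupOf.2 ha))⟩))
  · set N := normalizer (E₁.subgroupOf S : Set S) with hNd
    have h1 : Nat.card N ≤ p ^ 4 := by
      rw [← card_normalizerIn_map, subgroupOf_map_subtype, inf_eq_left.2 hE₁, ← hN]
      exact hfn.2 E₁ h
    have h2 : Nat.card (E₁.subgroupOf S) < Nat.card N := by
      refine Set.Finite.card_lt_card (Set.toFinite _) (SetLike.coe_ssubset_coe.2
        (CfsgLib.Soft.lt_normalizer hS fun ht => ?_))
      rw [ht, card_top] at hc₁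
      have := card_le_of_le le_rfl (normalizerIn_le_S (S := S) E)
      rw [hN, hc₁] at this
      exact absurd ((Nat.pow_le_pow_iff_right hp.out.one_lt).1 this) (by omega)
    obtain ⟨k, hk⟩ := IsPGroup.iff_card.1 (hS.to_subgroup N)
    rw [hc₁, hk] at h2
    rw [hk] at h1
    have h3 := (Nat.pow_lt_pow_iff_right hp.out.one_lt).1 h2
    have h4 := (Nat.pow_le_pow_iff_right hp.out.one_lt).1 h1
    obtain rfl : k = 4 := by omega
    have h5 := ((E₁.subgroupOf S).subgroupOf N).card_mul_index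
    rw [Nat.card_congr (subgroupOfEquivOfLe le_normalizer).toEquiv, hc₁, hk, pow_succ p 3] at h5
    exact Nat.eq_of_mul_eq_mul_left (pow_pos hp.out.pos 3) h5

theorem card_normalizer_over {E₁ : Subgroup Ω} (h : F.IsConj E E₁) {N : Subgroup S}
    (hle : E₁.subgroupOf S ≤ N) (hN' : N ≠ ⊤) :
    Nat.card (normalizer (N : Set S)) = p * Nat.card N := by
  have h1 := (CfsgLib.Soft.tower hS (soft_of_conj hS hcen hfn hab hcard hN h)).1 N hle hN'
  have h2 := (N.subgroupOf (normalizer (N : Set S))).card_mul_index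
  rw [Nat.card_congr (subgroupOfEquivOfLe le_normalizer).toEquiv] at h2
  rw [← h2, mul_comm p]
  exact congrArg _ h1

/-- The overgroups of `E` are fully normalized. -/
theorem fullyNormalized_over {N : Subgroup S} (hle : E.subgroupOf S ≤ N) :
    F.IsFullyNormalized (N.map S.subtype) := by
  rcases eq_or_ne N ⊤ with rfl | hN'
  · rw [← MonoidHom.range_eq_map, range_subtype]
    exact isFullyNormalized_S
  refine ⟨map_subtype_le N, fun Q hQ => ?_⟩
  have hQS := IsConj.le_right hQ
  obtain ⟨φ, hφ, rfl⟩ := hQ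
  have hEN : E ≤ N.map S.subtype := fun x hx => ⟨⟨x, hcen.1 hx⟩, hle (mem_subgroupOf.2 hx), rfl⟩
  have hcj : F.IsConj E ((E.subgroupOf (N.map S.subtype)).map φ) := isConj_map hφ hEN
  have hcN : Nat.card (φ.range.subgroupOf S) = Nat.card N := by
    rw [Nat.card_congr (subgroupOfEquivOfLe hQS).toEquiv, card_range hφ,
      card_map_of_injective S.subtype_injective]
  have hQ' : φ.range.subgroupOf S ≠ ⊤ := fun ht => hN' (eq_top_of_card_eq _ (by
    rw [← hcN, ht, card_top]))
  rw [show φ.range = (φ.range.subgroupOf S).map S.subtype by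
      rw [subgroupOf_map_subtype, inf_eq_left.2 hQS],
    card_normalizerIn_map, card_normalizerIn_map,
    card_normalizer_over hS hcen hfn hab hcard hN hcj
      (fun x hx => mem_subgroupOf.2 (map_le_range _ _ hx)) hQ',
    card_normalizer_over hS hcen hfn hab hcard hN (isConj_refl hcen.1) hle hN', hcN]

/-- The automizers of the overgroups of `E` form a system. -/
theorem isSys_autSys (hF : F.IsSaturated p) : IsSys p (E.subgroupOf S) (autSys F) := by
  refine ⟨fun N _ g hg => ?_, fun N hle R hRA hRp hcj α hα => ?_, fun N hle α hα hcj => ?_⟩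
  · refine autInducedBy_le_autGroup (map_subtype_le N) (mem_autInducedBy.2 ⟨g, g.2, fun y => ?_⟩)
    obtain ⟨x, rfl⟩ := (N.equivMapOfInjective S.subtype S.subtype_injective).surjective y
    simp [cj_apply]
  · obtain ⟨hQS, R₀, hR₀⟩ :=
      (good_of_fullyNormalized p hS hF (fullyNormalized_over hS hcen hfn hab hcard hN hle)).1
    set ι := N.equivMapOfInjective S.subtype S.subtype_injective
    set B := (R.map (MulAut.congr ι).toMonoidHom).subgroupOf (F.autGroup (N.map S.subtype))
    have hBp : IsPGroup p B :=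
      (hRp.map _).comap_of_injective (F.autGroup (N.map S.subtype)).subtype Subtype.val_injective
    have hle' : (R₀ : Subgroup (F.autGroup (N.map S.subtype))) ≤ B := by
      intro a ha
      rw [hR₀, mem_subgroupOf] at ha
      obtain ⟨g, hg, hgx⟩ := mem_autInducedBy.1 ha
      have hgN : (⟨g, hg⟩ : S) ∈ normalizer (N : Set S) := mem_normalizer_of_map_le fun x hx =>
        coe_mem_map.1 ((mem_normalizer_iff.1 (mem_normalizer_of_aut hgx) _).1 (coe_mem_map.2 hx))
      refine mem_subgroupOf.2 ⟨_, hcj ⟨g, hg⟩ hgN, MulEquiv.ext fun y => Subtype.ext ?_⟩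
      obtain ⟨x, rfl⟩ := ι.surjective y
      rw [hgx]
      simp [ι, cj_apply]
    have hBR := R₀.is_maximal' hBp hle'
    have hm : (⟨MulAut.congr ι α, hRA hα⟩ : F.autGroup (N.map S.subtype)) ∈
        (R₀ : Subgroup (F.autGroup (N.map S.subtype))) := hBR ▸ mem_subgroupOf.2 ⟨α, hα, rfl⟩
    rw [hR₀, mem_subgroupOf] at hm
    obtain ⟨g, hg, hgx⟩ := mem_autInducedBy.1 hm
    have hgN : (⟨g, hg⟩ : S) ∈ normalizer (N : Set S) := mem_normalizer_of_map_le fun x hx =>
      coe_mem_map.1 ((mem_normalizer_iff.1 (mem_normalizer_of_aut hgx) _).1 (coe_mem_map.2 hx))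
    refine ⟨⟨g, hg⟩, hgN, MulEquiv.ext fun x => Subtype.ext (Subtype.ext ?_)⟩
    simpa [ι, cj_apply] using hgx (ι x)
  · have hfN := fullyNormalized_over hS hcen hfn hab hcard hN hle
    set ι := N.equivMapOfInjective S.subtype S.subtype_injective
    set φ := (N.map S.subtype).subtype.comp (MulAut.congr ι α).toMonoidHom
    have hφ : φ ∈ F.Hom (N.map S.subtype) := (autGroup_carrier (map_subtype_le N)).1 hα
    have hφr : φ.range = N.map S.subtype := range_subtype_comp _
    have hext : normalizerIn S (N.map S.subtype) ≤ extender S (N.map S.subtype) φ := by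
      intro g hg
      have hgN : (⟨g, hg.1⟩ : S) ∈ normalizer (N : Set S) := mem_normalizer_of_map_le fun x hx =>
        coe_mem_map.1 ((mem_normalizer_iff.1 hg.2 _).1 (coe_mem_map.2 hx))
      obtain ⟨h, hh, hhe⟩ := hcj ⟨g, hg.1⟩ hgN
      refine mem_extender_of hg h.2 fun y hy => ?_
      obtain ⟨x, rfl⟩ := ι.surjective y
      have h1 : α (cj N ⟨g, hg.1⟩ hgN x) = cj N h hh (α x) := by
        rw [← hhe, MulAut.mul_apply, MulAut.mul_apply, MulAut.inv_apply_self]
      have h2 : (⟨g * (ι x : Ω) * g⁻¹, hy⟩ : N.map S.subtype) = ι (cj N ⟨g, hg.1⟩ hgN x) :=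
        Subtype.ext (by simp [ι, cj_apply])
      rw [h2]
      show ((ι (α (ι.symm (ι _))) : N.map S.subtype) : Ω) =
        (h : Ω) * ((ι (α (ι.symm (ι x))) : N.map S.subtype) : Ω) * (h : Ω)⁻¹
      rw [MulEquiv.symm_apply_apply, MulEquiv.symm_apply_apply, h1]
      simp [ι, cj_apply]
    obtain ⟨ψ, hψ, hψe⟩ :=
      receptive_extend (good_of_fullyNormalized p hS hF hfN).2 hφ hφr hext
    have hψr : ψ.range = normalizerIn S (N.map S.subtype) := by
      refine eq_of_le_of_card_le (normalizerIn_le_S _) ?_ (card_range hψ).ge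
      rintro _ ⟨g, rfl⟩
      have h3 := map_mem_normalizerIn hψ (le_normalizerIn (map_subtype_le N)) g.2 g.2
      rwa [map_eq_range_of_eq (le_normalizerIn (map_subtype_le N)) hψe, hφr] at h3
    let ιM := ((normalizer (N : Set S)).equivMapOfInjective S.subtype S.subtype_injective).trans
      (MulEquiv.subgroupCongr (normalizer_map N))
    have hιM : ∀ x, ((ιM x : normalizerIn S (N.map S.subtype)) : Ω) = ((x : S) : Ω) := fun x => rfl
    let β₀ := autOfRange ψ (F.injective_of_mem hψ) hψr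
    refine ⟨MulAut.congr ιM.symm β₀, (mem_autSys (normalizer_map N) ιM hιM).2 ?_, fun x => ?_⟩
    · have e : MulAut.congr ιM (MulAut.congr ιM.symm β₀) = β₀ :=
        MulEquiv.ext fun y => by simp [MulAut.congr]
      rw [e]
      exact autOfRange_mem hψ hψr
    · apply Subtype.ext
      have h4 := hψe (ι x : Ω) (ι x).2 ((ιM ⟨x, le_normalizer x.2⟩).2)
      show ((ιM.symm (β₀ (ιM ⟨x, le_normalizer x.2⟩)) : normalizer (N : Set S)) : S).val = _
      rw [← hιM, MulEquiv.apply_symm_apply]
      refine h4.trans ?_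
      show ((ι (α (ι.symm (ι x))) : N.map S.subtype) : Ω) = ((α x : N) : S).val
      rw [MulEquiv.symm_apply_apply]
      rfl

end System

/-- The torus element at the bottom of the tower. -/
theorem exists_base (hS : IsPGroup p S) (hF : F.IsSaturated p) {E : Subgroup Ω}
    (hE : F.IsEssential p E) (hab : ∀ a b : E, a * b = b * a) {n : ℕ}
    (hs : Setup p n (E.subgroupOf S)) (L μ : ℤ) (hμ : (p : ℤ) ∣ L * μ - 1) :
    St (autSys F) (E.subgroupOf S) L μ 0 := by
  classical
  have hES := hE.1.1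
  have := finite_of_le hES
  have : Finite (MulAut E) := finite_mulAut
  obtain ⟨R, Y, hY, hR⟩ := exists_emb hS hF hE hab
  letI : CommGroup E := { (inferInstance : Group E) with mul_comm := hab }
  set E' := E.subgroupOf S with hE'
  set κ := subgroupOfEquivOfLe hES with hκ
  have hcard : Nat.card E = p ^ 3 := by rw [← Nat.card_congr κ.toEquiv, hs.cardE]
  have hexp : ∀ x : E, x ^ p = 1 := fun x => by
    have := hs.expE ⟨x, hES x.2⟩ (mem_subgroupOf.2 x.2)
    exact Subtype.ext (by simpa using congrArg Subtype.val this)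
  have hcc := hs.cc_facts
  have hn := hs.n5
  set W₀ : Subgroup E := ((bb E' 0).map S.subtype).subgroupOf E with hW₀
  have hW : ∀ y : E, y ∈ W₀ ↔ (⟨y, hES y.2⟩ : S) ∈ bb E' 0 := fun y =>
    mem_subgroupOf.trans (coe_mem_map (x := (⟨y, hES y.2⟩ : S)))
  obtain ⟨c₀, hc₀, hc1⟩ := (bot_or_exists_ne_one (cc E')).resolve_left fun h => by
    have := hcc.1
    rw [h, card_bot] at this
    exact hp.out.one_lt.ne this
  have hccE : ∀ u ∈ cc E', (u : Ω) ∈ E := fun u hu =>
    mem_subgroupOf.1 (hs.bb_zero_le (hcc.2.1 hu))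
  set c : E := ⟨(c₀ : Ω), hccE c₀ hc₀⟩ with hcd
  have hgen : ∀ y : E, (⟨y, hES y.2⟩ : S) ∈ cc E' → y ∈ zpowers c := by
    intro y hy
    obtain ⟨i, hi⟩ := mem_zpowers_iff.1 (mem_zpowers_of_prime_card hcc.1
      (g := (⟨c₀, hc₀⟩ : cc E')) (g' := ⟨_, hy⟩) fun h => hc1 (congrArg Subtype.val h))
    refine ⟨i, Subtype.ext ?_⟩
    simpa [hcd] using congrArg (fun v : cc E' => ((v : S) : Ω)) hi
  obtain ⟨x, hxT, hxE⟩ : ∃ x ∈ tow E' 1, x ∉ E' := by
    refine SetLike.not_le_iff_exists.1 fun h => ?_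
    have := Subgroup.card_le_of_le h
    rw [hs.card_tow _ (by omega), hs.cardE] at this
    exact absurd ((Nat.pow_le_pow_iff_right hp.out.one_lt).1 this) (by omega)
  have hxN : (x : Ω) ∈ normalizerIn S E := by
    rw [show E = E'.map S.subtype by rw [hE', subgroupOf_map_subtype, inf_eq_left.2 hES],
      ← normalizer_map]
    exact ⟨x, hxT, rfl⟩
  set t₀ : MulAut E := conjAut S E ⟨_, hxN⟩ with ht₀
  have htI : t₀ ∈ autInducedBy S E := mem_autInducedBy.2 ⟨x, x.2, fun y => rfl⟩
  set t : F.autGroup E := ⟨t₀, autInducedBy_le_autGroup hES htI⟩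
  have hfix : ∀ y : E, t₀ y = y → (⟨y, hES y.2⟩ : S) ∈ bb E' 0 := by
    intro y hy
    have hyE : (⟨y, hES y.2⟩ : S) ∈ E' := mem_subgroupOf.2 y.2
    refine ⟨hyE, ?_⟩
    by_contra hy1
    refine hxE (hs.mem_of_commute hyE hy1 (Subtype.ext ?_))
    have := congrArg (fun v : E => (v : Ω)) hy
    simp only [ht₀, coe_conjAut] at this
    exact mul_inv_eq_iff_eq_mul.1 this
  have hsh : IsShear p (R : Subgroup (F.autGroup E)) t W₀ c := by
    refine ⟨by rw [hR, mem_subgroupOf]; exact htI, fun h => ?_, fun y => ⟨fun hy => (hW y).2 (hfix y hy),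
      fun hy => ?_⟩, fun y => hgen _ ?_, (hW _).2 (hcc.2.1 hc₀),
      orderOf_eq_prime (hexp c) (fun h => hc1 (Subtype.ext (congrArg Subtype.val h :))), ?_⟩
    · obtain ⟨e, he, he'⟩ := hs.exists_e
      exact he' (hfix ⟨e, mem_subgroupOf.1 he⟩ (by
        rw [show t₀ = 1 from congrArg Subtype.val h]; rfl)).2
    · have h1 := congrArg Subtype.val
        (mem_centralizer_iff.1 (hs.bb_zero_central hxT) _ ((hW y).1 hy))
      refine Subtype.ext ?_
      show (x : Ω) * y * (x : Ω)⁻¹ = y
      rw [show (x : Ω) * y = y * x from h1.symm, mul_inv_cancel_right]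
    · have h1 : ⁅(⟨y, hES y.2⟩ : S)⁻¹, x⁆ ∈ cc E' := commutator_mem_commutator
        (inv_mem (hs.le_tow 1 (mem_subgroupOf.2 y.2))) hxT
      convert h1 using 1
      exact Subtype.ext (by simp [t, ht₀, commutatorElement_def, mul_assoc])
    · rw [hW₀, Nat.card_congr (subgroupOfEquivOfLe (fun y hy => by
          obtain ⟨a, ha, rfl⟩ := hy
          exact mem_subgroupOf.1 (hs.bb_zero_le ha))).toEquiv,
        card_map_of_injective S.subtype_injective, hs.card_bb_zero]
  obtain ⟨h, hc', hw, hx⟩ := exists_torus hcard hexp hY hsh hμ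
  refine ⟨MulAut.congr κ.symm (h : MulAut E),
    (mem_autSys (N := tow E' 0) (Q := E)
      (by show (E.subgroupOf S).map S.subtype = E; rw [subgroupOf_map_subtype, inf_eq_left.2 hES])
      κ (fun v => rfl)).2 ?_, ?_⟩
  · have e : MulAut.congr κ (MulAut.congr κ.symm (h : MulAut E)) = h :=
      MulEquiv.ext fun y => by simp [MulAut.congr]
    exact e.symm ▸ h.2
  set δ : MulAut (tow E' 0) := MulAut.congr κ.symm (h : MulAut E) with hδ
  have hco : ∀ v : tow E' 0, ((δ v : tow E' 0) : S) =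
      (⟨((h : MulAut E) (κ v) : E), hES ((h : MulAut E) (κ v)).2⟩ : S) := fun v =>
    Subtype.ext rfl
  intro k hk v hv
  rw [hco]
  match k, hk with
  | 0, _ =>
    obtain ⟨i, hi⟩ := mem_zpowers_iff.1 (hgen (κ v) hv)
    rw [show fl E' 0 0 = ⊥ from rfl, mem_bot, inv_mul_eq_one]
    apply Subtype.ext
    show (((v : S) ^ L : S) : Ω) = _
    rw [SubgroupClass.coe_zpow, ← hi, map_zpow, hc', ← zpow_mul, mul_comm, zpow_mul]
    have e : ((κ v : E) : Ω) = ((v : S) : Ω) := rfl
    rw [← e, ← hi]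
    simp
  | 1, _ =>
    obtain ⟨i, hi⟩ := mem_zpowers_iff.1 (hw (κ v) ((hW _).2 hv))
    show ((v : S) ^ (1 : ℤ))⁻¹ * _ ∈ cc E'
    have e : (⟨((κ v : E) : Ω), hES (κ v).2⟩ : S)⁻¹ *
        ⟨((h : MulAut E) (κ v) : E), hES ((h : MulAut E) (κ v)).2⟩ = c₀ ^ i := by
      apply Subtype.ext
      simpa [hcd] using congrArg (fun v : E => (v : Ω)) hi.symm
    rw [zpow_one]
    exact e ▸ zpow_mem hc₀ i
  | 2, _ =>
    have h1 := (hW _).1 (hx (κ v))
    show ((v : S) ^ μ)⁻¹ * _ ∈ bb E' 0
    convert h1 using 1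
    apply Subtype.ext
    simp [κ]
    rfl
  | k + 3, hk => omega

end CfsgLib.MaxClassEss
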