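import Cfsg.Agent.FGSA.MaximalClassPower
import Cfsg.Agent.MaxClassEss.Frame

/-!
The case where the commutator subgroup of the normalizer of the soft subgroup is not the centre.
-/

set_option autoImplicit false
set_option linter.unusedSectionVars false
set_option maxHeartbeats 1000000

open Subgroup
open scoped commutatorElement

namespace CfsgLib.MaxClassEss

open CfsgLib.FGSA.MaxClass

universe u

variable {G : Type u} [Group G] [Finite G] {p n : ℕ} [hp : Fact p.Prime] {E : Subgroup G}

namespace Setup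

variable (hS : Setup p n E)
include hS

theorem card_center : Nat.card (center G) = p := by
  have h := hS.n5
  rw [hS.center_eq, hS.card_gamma (by omega) (by omega), show n - 1 - (n - 2) = 1 by omega, pow_one]

theorem center_inf_cc (hcc : cc E ≠ center G) {x : G} (h1 : x ∈ cc E) (h2 : x ∈ center G) : x = 1 := by
  by_contra hx
  refine hcc ?_
  have hle : zpowers x ≤ cc E ⊓ center G := le_inf (zpowers_le.2 h1) (zpowers_le.2 h2)
  have hcard : Nat.card (cc E ⊓ center G : Subgroup G) = p := by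
    rcases (Nat.dvd_prime hp.out).1 (hS.cc_facts.1 ▸ card_dvd_of_le (inf_le_left :
        cc E ⊓ center G ≤ cc E)) with h | h
    · refine absurd ?_ hx
      have := (card_eq_one.1 h) ▸ hle (mem_zpowers x)
      simpa using this
    · exact h
  rw [← eq_of_le_of_card_ge (inf_le_left : cc E ⊓ center G ≤ cc E) (by rw [hcard, hS.cc_facts.1]),
    eq_of_le_of_card_ge (inf_le_right : cc E ⊓ center G ≤ center G) (by rw [hcard, hS.card_center])]

theorem gamma_eq_bb_zero (hcc : cc E ≠ center G) : lcs G (n - 3) = bb E 0 := by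
  have hn := hS.n5
  refine eq_of_le_of_card_ge (le_inf ?_ ((⊤ : Subgroup G).lowerCentralSeries_antitone (by omega))) ?_
  · intro x hx
    by_contra hxE
    obtain ⟨e, he, he'⟩ := hS.exists_e
    have h1 : ⁅x, e⁆ ∈ center G := by
      rw [hS.center_eq, show n - 2 = n - 3 + 1 by omega]; exact comm_mem_succ _ hx e
    have hxN : x ∈ tow E 1 := mem_normalizer_of_map_le fun a ha => by
      show x * a * x⁻¹ ∈ E
      have h2 : ⁅x, a⁆ ∈ E := hS.center_le (by
        rw [hS.center_eq, show n - 2 = n - 3 + 1 by omega]; exact comm_mem_succ _ hx a)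
      simpa [commutatorElement_def, mul_assoc] using mul_mem h2 (show a ∈ E from ha)
    have h3 := hS.center_inf_cc hcc (commutator_mem_commutator hxN (hS.le_tow 1 he)) h1
    exact hxE (hS.mem_of_commute he he' (commutatorElement_eq_one_iff_mul_comm.1 h3))
  · rw [hS.card_bb_zero, hS.card_gamma (by omega) (by omega), show n - 1 - (n - 3) = 2 by omega]

theorem gamma_eq_bb_one (hcc : cc E ≠ center G) : lcs G (n - 4) = bb E 1 := by
  have hn := hS.n5
  refine eq_of_le_of_card_ge (le_inf (fun x hx => mem_normalizer_of_map_le fun a ha => ?_)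
    ((⊤ : Subgroup G).lowerCentralSeries_antitone (by omega))) ?_
  · show x * a * x⁻¹ ∈ E
    have h2 : ⁅x, a⁆ ∈ E := hS.bb_zero_le (by
      rw [← hS.gamma_eq_bb_zero hcc, show n - 3 = n - 4 + 1 by omega]; exact comm_mem_succ _ hx a)
    simpa [commutatorElement_def, mul_assoc] using mul_mem h2 (show a ∈ E from ha)
  · rw [hS.card_bb (by omega), hS.card_gamma (by omega) (by omega),
      show n - 1 - (n - 4) = 3 by omega]

/-- `e` moves every level of the lower central series above the last two. -/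
theorem avoid (hcc : cc E ≠ center G) {e : G} (he : e ∈ E) (he' : e ∉ lcs G 1) {j : ℕ} (hj : 1 ≤ j)
    (hj' : j + 4 ≤ n) : e ∉ twoStep G j := by
  intro hmem
  rw [mem_twoStep] at hmem
  have hn := hS.n5
  obtain ⟨z, hz, hz1⟩ := (bot_or_exists_ne_one (center G)).resolve_left (fun h => by
    have := hS.card_center
    rw [h, card_bot] at this
    exact hp.out.one_lt.ne this)
  have hzR : z ∈ lcs G (j + 2) :=
    (⊤ : Subgroup G).lowerCentralSeries_antitone (show j + 2 ≤ n - 2 by omega) (hS.center_eq.le hz)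
  classical
  let f : ↥(lcs G j) → ↥(lcs G (j + 2)) := fun b => ⟨_, hmem b b.2⟩
  have hz' : (⟨z, hzR⟩ : ↥(lcs G (j + 2))) ∉ Set.range f := by
    rintro ⟨b, hb⟩
    have hbz : ⁅(b : G), e⁆ = z := congrArg Subtype.val hb
    have hzW : z ∈ bb E 0 := by
      rw [← hS.gamma_eq_bb_zero hcc]
      exact (⊤ : Subgroup G).lowerCentralSeries_antitone (show n - 3 ≤ n - 2 by omega)
        (hS.center_eq.le hz)
    refine hz1 (hS.center_inf_cc hcc ?_ hz)
    rw [← hbz]
    refine (hS.comm_mem_cc he he' ?_ (hbz ▸ hzW)).2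
    rw [← hS.gamma_eq_bb_zero hcc]
    exact mem_normalizer_of_map_le fun x hx => (lcs_normal _).conj_mem x hx b
  let r : Set.range f → ↥(lcs G j) := fun y => y.2.choose
  have hr : ∀ y, f (r y) = y := fun y => y.2.choose_spec
  have hle : lcs G j ≤ lcs G 1 := (⊤ : Subgroup G).lowerCentralSeries_antitone hj
  let ψ : ↥(lcs G j) → Set.range f × ↥(bb E 0) := fun b =>
    (⟨f b, b, rfl⟩, ⟨((r ⟨f b, b, rfl⟩ : ↥(lcs G j)) : G)⁻¹ * b, hS.mem_bb_zero he he'
      (comm_eq_imp (congrArg Subtype.val (hr ⟨f b, b, rfl⟩)))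
      (mul_mem (inv_mem (hle (SetLike.coe_mem _))) (hle b.2))⟩)
  have hψ : Function.Injective ψ := fun b b' h => by
    have h1 := congrArg Prod.fst h
    have h3 : ((r (ψ b).1 : ↥(lcs G j)) : G)⁻¹ * b = ((r (ψ b').1 : ↥(lcs G j)) : G)⁻¹ * b' :=
      congrArg Subtype.val (congrArg Prod.snd h)
    rw [h1] at h3
    exact Subtype.ext (mul_left_cancel h3)
  have h3 := Nat.card_le_card_of_injective ψ hψ
  rw [Nat.card_prod, hS.card_bb_zero, hS.card_gamma hj (by omega),
    show n - 1 - j = n - 1 - (j + 2) + 2 by omega, pow_add] at h3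
  have h4 : Nat.card (Set.range f) < Nat.card ↥(lcs G (j + 2)) := by
    rw [← Nat.card_univ (α := ↥(lcs G (j + 2)))]
    exact Set.Finite.card_lt_card (Set.toFinite _) (Set.ssubset_univ_iff.2 fun h =>
      hz' (h ▸ Set.mem_univ _))
  rw [hS.card_gamma (by omega) (by omega)] at h4
  have := Nat.le_of_mul_le_mul_right h3 (pow_pos hp.out.pos 2)
  omega

/-- Outside the maximal overgroup of `E`, the top commutator pairs nontrivially with `F`. -/
theorem pairing_ne_one (hcc : cc E ≠ center G) {e : G} (he : e ∈ E) (he' : e ∉ lcs G 1) {s f : G}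
    (hs : s ∉ tow E (n - 4)) (hf : f ∈ bb E 1) (hf' : f ∉ bb E 0) :
    ⁅f, ⁅s, e⁆⁆ ≠ 1 := by
  have hn := hS.n5
  intro h1
  set u := ⁅f, e⁆ with hu
  have hu1 : u ≠ 1 := fun h => hf' (hS.mem_bb_zero he he'
    (commutatorElement_eq_one_iff_mul_comm.1 h) hf.2)
  have huc : u ∈ cc E := commutator_mem_commutator hf.1 (hS.le_tow 1 he)
  have huE : u ∈ E := hS.bb_zero_le (hS.cc_facts.2.1 huc)
  set C := centralizer ({u} : Set G) with hC
  have hCt : C ≠ ⊤ := fun h => hu1 (hS.center_inf_cc hcc huc (mem_center_iff.2 fun x =>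
    mem_centralizer_singleton_iff.1 (h.symm ▸ mem_top x : x ∈ C)))
  have hsu : s * u ≠ u * s := fun h => hs (hS.le_max (fun a ha => mem_centralizer_singleton_iff.2
    (hS.commute_E ha huE)) hCt (mem_centralizer_singleton_iff.2 h))
  set g := ⁅s, e⁆
  set w := ⁅s, f⁆
  have hg : g ∈ lcs G 1 := commutator_mem_commutator (mem_top s) (mem_top e)
  have hw : w ∈ lcs G (n - 3) := by
    rw [← inv_mem_iff, commutatorElement_inv, show n - 3 = n - 4 + 1 by omega]
    exact comm_mem_succ _ (hS.gamma_eq_bb_one hcc ▸ hf) s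
  have hwg : w * g = g * w := hS.gamma_comm_bot (i := n - 3) (j := 1) (by omega) hw hg
  have hwe : w * e = e * w := hS.commute_E (hS.bb_zero_le (hS.gamma_eq_bb_zero hcc ▸ hw)) he
  have hug : u * g = g * u := hS.gamma_comm_bot (i := n - 3) (j := 1) (by omega)
    (by rw [hS.gamma_eq_bb_zero hcc]; exact hS.cc_facts.2.1 huc) hg
  have hwf : w * f = f * w := by
    exact hS.gamma_comm_bot (i := n - 3) (j := 1) (by omega) hw hf.2
  refine hsu (mul_inv_eq_iff_eq_mul.1 ?_)
  have e1 : s * f * s⁻¹ = w * f := by simp [w, commutatorElement_def]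
  have e2 : s * e * s⁻¹ = g * e := by simp [g, commutatorElement_def]
  have hwc : Commute w (g * e) := Commute.mul_right hwg hwe
  calc s * u * s⁻¹ = ⁅s * f * s⁻¹, s * e * s⁻¹⁆ := by
        simp only [u, commutatorElement_def]; group
    _ = ⁅w * f, g * e⁆ := by rw [e1, e2]
    _ = w * ⁅f, g * e⁆ * w⁻¹ * ⁅w, g * e⁆ := by simp only [commutatorElement_def]; group
    _ = w * (⁅f, g⁆ * (g * ⁅f, e⁆ * g⁻¹)) * w⁻¹ := by
        rw [commutatorElement_eq_one_iff_mul_comm.2 hwc.eq, mul_one]
        simp only [commutatorElement_def]; group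
    _ = u := by
        rw [h1, one_mul, ← hu, ← hug, mul_inv_cancel_right]
        have hwu : w * u = u * w := hS.commute_E
          (hS.bb_zero_le (hS.gamma_eq_bb_zero hcc ▸ hw)) huE
        rw [hwu, mul_inv_cancel_right]

/-- The pairing vanishes in odd degree. -/
theorem not_odd (hcc : cc E ≠ center G) (hodd : Odd n) : False := by
  have hn := hS.n5
  obtain ⟨e, he, he'⟩ := hS.exists_e
  obtain ⟨r, hr⟩ := hodd
  have hanti : ∀ {a b : ℕ}, a ≤ b → lcs G b ≤ lcs G a := fun h =>
    (⊤ : Subgroup G).lowerCentralSeries_antitone h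
  have hW : ∀ x ∈ lcs G (n - 3), x * e = e * x := fun x hx =>
    hS.commute_E (hS.bb_zero_le (hS.gamma_eq_bb_zero hcc ▸ hx)) he
  have key : ∀ d, d + 2 ≤ r → ∀ x ∈ lcs G (r - 1 - d), ∀ y ∈ lcs G (r - 1 + d), x * y = y * x := by
    intro d
    induction d with
    | zero =>
      intro _ x hx y hy
      rw [Nat.sub_zero] at hx
      rw [add_zero] at hy
      by_cases hy' : y ∈ lcs G (r - 1 + 1)
      · exact hS.gamma_comm_bot (by omega) hx hy'
      have hK := eq_of_succ_lt hS.pG hS.cardG (by omega) hS.max (i := r - 1) (by omega) (by omega)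
        (K := centralizer ({y} : Set G)) (fun z hz => mem_centralizer_singleton_iff.2
          (hS.gamma_comm_bot (i := r - 1 + 1) (j := r - 1) (by omega) hz hy))
        (mem_centralizer_singleton_iff.2 rfl) hy hy' hx
      exact mem_centralizer_singleton_iff.1 hK
    | succ d ih =>
      intro hd x hx v hv
      have hIH := ih (by omega)
      by_cases hv' : v ∈ lcs G (r - 1 + (d + 1) + 1)
      · exact hS.gamma_comm_bot (by omega) hx hv'
      -- `v` is a commutator with `e`, up to the next term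
      obtain ⟨y, hy, hy'⟩ : ∃ y ∈ lcs G (r - 1 + d), ⁅e, y⁆ ∉ lcs G (r - 1 + (d + 1) + 1) := by
        by_contra h
        push Not at h
        refine hS.avoid hcc he he' (j := r - 1 + d) (by omega) (by omega) (mem_twoStep.2 fun y hy => ?_)
        rw [← inv_mem_iff, commutatorElement_inv, show r - 1 + d + 2 = r - 1 + (d + 1) + 1 by omega]
        exact h y hy
      set v₀ := ⁅e, y⁆
      have hv₀ : v₀ ∈ lcs G (r - 1 + (d + 1)) := by
        rw [← inv_mem_iff, commutatorElement_inv, show r - 1 + (d + 1) = r - 1 + d + 1 by omega]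
        exact comm_mem_succ _ hy e
      suffices hxv : x * v₀ = v₀ * x by
        have hK := eq_of_succ_lt hS.pG hS.cardG (by omega) hS.max (i := r - 1 + (d + 1)) (by omega)
          (by omega) (K := centralizer ({x} : Set G)) (fun z hz => mem_centralizer_singleton_iff.2
            (hS.gamma_comm_bot (by omega) hx hz).symm)
          (mem_centralizer_singleton_iff.2 hxv.symm) hv₀ hy' hv
        exact (mem_centralizer_singleton_iff.1 hK).symm
      set u₀ := ⁅e, x⁆
      have hu₀ : u₀ ∈ lcs G (r - 1 - d) := by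
        rw [← inv_mem_iff, commutatorElement_inv, show r - 1 - d = r - 1 - (d + 1) + 1 by omega]
        exact comm_mem_succ _ hx e
      have huv : u₀ * v₀ = v₀ * u₀ := hS.gamma_comm_bot (by omega) hu₀ hv₀
      have huy : u₀ * y = y * u₀ := hIH _ hu₀ _ hy
      have hxy : ⁅x, y⁆ ∈ lcs G (n - 3) :=
        hanti (by omega) (commutator_lcs _ _ (commutator_mem_commutator hx hy))
      have hxv₀ : ⁅x, v₀⁆ ∈ lcs G (n - 2) :=
        hanti (by omega) (commutator_lcs _ _ (commutator_mem_commutator hx hv₀))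
      have e1 : e * x * e⁻¹ = u₀ * x := by simp [u₀, commutatorElement_def]
      have e2 : e * y * e⁻¹ = v₀ * y := by simp [v₀, commutatorElement_def]
      have h1 : ⁅u₀ * x, v₀ * y⁆ = ⁅x, y⁆ := by
        rw [← e1, ← e2]
        calc ⁅e * x * e⁻¹, e * y * e⁻¹⁆ = e * ⁅x, y⁆ * e⁻¹ := by
              simp only [commutatorElement_def]; group
          _ = _ := by rw [← hW _ hxy, mul_inv_cancel_right]
      have h2 : ⁅u₀, v₀ * y⁆ = 1 :=
        commutatorElement_eq_one_iff_mul_comm.2 ((Commute.mul_right huv huy).eq)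
      have h3 : ∀ z ∈ lcs G (n - 3), ∀ a ∈ lcs G 1, a * z * a⁻¹ = z := fun z hz a ha => by
        rw [← hS.gamma_comm_bot (i := n - 3) (j := 1) (by omega) hz ha, mul_inv_cancel_right]
      have h4 : ⁅u₀ * x, v₀ * y⁆ = ⁅x, v₀⁆ * ⁅x, y⁆ := by
        calc ⁅u₀ * x, v₀ * y⁆ = u₀ * ⁅x, v₀ * y⁆ * u₀⁻¹ * ⁅u₀, v₀ * y⁆ := by
              simp only [commutatorElement_def]; group
          _ = u₀ * (⁅x, v₀⁆ * (v₀ * ⁅x, y⁆ * v₀⁻¹)) * u₀⁻¹ := by
              rw [h2, mul_one]; simp only [commutatorElement_def]; group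
          _ = _ := by
              rw [h3 _ hxy _ (hanti (by omega) hv₀), h3 _ (mul_mem (hanti (by omega) hxv₀) hxy) _
                (hanti (by omega) hu₀)]
      rw [h1] at h4
      exact commutatorElement_eq_one_iff_mul_comm.1 (mul_eq_right.1 h4.symm)
  obtain ⟨s, hs⟩ : ∃ s : G, s ∉ tow E (n - 4) := by
    by_contra h
    push Not at h
    exact hS.tow_ne_top (k := n - 4) (by omega) ((eq_top_iff' _).2 h)
  obtain ⟨f, hf, hf'⟩ : ∃ f ∈ bb E 1, f ∉ bb E 0 := by
    refine SetLike.not_le_iff_exists.1 fun h => ?_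
    have := card_le_of_le h
    rw [hS.card_bb (by omega), hS.card_bb_zero] at this
    exact absurd ((Nat.pow_le_pow_iff_right hp.out.one_lt).1 this) (by norm_num)
  refine hS.pairing_ne_one hcc he he' hs hf hf' (commutatorElement_eq_one_iff_mul_comm.2 ?_)
  have hg : ⁅s, e⁆ ∈ lcs G 1 := commutator_mem_commutator (mem_top s) (mem_top e)
  by_cases hr2 : r = 2
  · have := key 0 (by omega) ⁅s, e⁆ (by rwa [hr2]) f (by
      rw [hr2]; exact hf.2)
    exact this.symm
  · exact (key (r - 2) (by omega) ⁅s, e⁆ (by rwa [show r - 1 - (r - 2) = 1 by omega]) f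
      (by rw [show r - 1 + (r - 2) = n - 4 by omega, hS.gamma_eq_bb_one hcc]; exact hf)).symm

/-- Large orders are excluded. -/
theorem not_large (hcc : cc E ≠ center G) (hlarge : p + 3 ≤ n) : False := by
  have hn := hS.n5
  have h3 : 3 ≤ p := by have := hS.p5; omega
  obtain ⟨e, he, he'⟩ := hS.exists_e
  refine hS.avoid hcc he he' (j := n - p - 2) (by omega) (by omega) (mem_twoStep.2 fun x hx => ?_)
  have hexp : ∀ c ∈ lcs G (2 * (n - p - 2) + 2), c ^ p = 1 := fun c hc => by
    have h := CfsgLib.FGSA.MaxClassPow.pow_mem h3 (n - p) (by omega) hS.pG hS.cardG (by omega) hS.max c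
      ((⊤ : Subgroup G).lowerCentralSeries_antitone (by omega) hc)
    rwa [lcs_last hS.pG hS.cardG (by omega) hS.max (by omega), mem_bot] at h
  have h1 := CfsgLib.FGSA.MaxClassPow.pow_comm_eq hS.pG hS.cardG (by omega) hS.max (a := n - p - 2) (by omega) hx
    (s := e) hexp
  have hxp : x ^ p ∈ lcs G (n - 3) := by
    have := CfsgLib.FGSA.MaxClassPow.pow_mem h3 (n - p - 2) (by omega) hS.pG hS.cardG (by omega) hS.max x hx
    rwa [show n - p - 2 + p - 1 = n - 3 by omega] at this
  rw [hS.gamma_eq_bb_zero hcc] at hxp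
  rw [commutatorElement_eq_one_iff_mul_comm.2 (hS.commute_E (hS.bb_zero_le hxp) he)] at h1
  rw [show n - p - 2 + 2 = n - p - 1 + 1 by omega]
  by_contra hne
  refine CfsgLib.FGSA.MaxClassPow.pow_not_mem h3 (n - p - 1) (by omega) hS.pG hS.cardG (by omega) hS.max _ ?_ hne
    (h1 ▸ one_mem _)
  rw [show n - p - 1 = n - p - 2 + 1 by omega]
  exact comm_mem_succ _ hx e

end Setup

end CfsgLib.MaxClassEss
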