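import Cfsg.Agent.MaxClassEss.Auto

/-!
Automorphisms acting trivially on a flag with factors of order `p`, coordinates on a section of
order `p`, and a commutator identity.
-/

set_option autoImplicit false
set_option linter.unusedSectionVars false

open Subgroup
open scoped commutatorElement

namespace CfsgLib.MaxClassEss

universe u

variable {G : Type u} [Group G]

/-- A flag with factors of order `p`. -/
structure IsFlag (p : ℕ) (T : ℕ → Subgroup G) (M : ℕ) (N : Subgroup G) : Prop where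
  bot : T 0 = ⊥
  top : T M = N
  sec : ∀ k < M, Sec p (T (k + 1)) (T k)

variable [Finite G] {p : ℕ} [hp : Fact p.Prime] {T : ℕ → Subgroup G} {M : ℕ} {N : Subgroup G}

theorem IsFlag.le (hT : IsFlag p T M N) {k : ℕ} (hk : k ≤ M) : T k ≤ N := by
  rw [← hT.top]
  suffices h : ∀ m, k ≤ m → m ≤ M → T k ≤ T m from h M hk le_rfl
  intro m hm
  induction hm with
  | refl => exact fun _ => le_rfl
  | @step m h ih => exact fun hm' => (ih (by omega)).trans (hT.sec m (by omega)).le

theorem IsFlag.mem_of_scal (hT : IsFlag p T M N) {α : MulAut N} {a : ℕ → ℤ}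
    (hα : ∀ k < M, Scal α (T (k + 1)) (T k) (a k)) {k : ℕ} (hk : k ≤ M) {x : N}
    (hx : (x : G) ∈ T k) : (α x : G) ∈ T k := by
  rcases k with _ | k
  · rw [hT.bot, mem_bot] at hx ⊢
    rw [show x = 1 from Subtype.ext hx, map_one]; rfl
  · exact (hα k (by omega)).apply_mem (hT.sec k (by omega)).le hx

/-- The automorphisms in `A` acting trivially on all factors of the flag. -/
def flagKernel (hT : IsFlag p T M N) (A : Subgroup (MulAut N)) : Subgroup (MulAut N) :=
  let S : Submonoid (MulAut N) :=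
    { carrier := {α | α ∈ A ∧ ∀ k < M, Scal α (T (k + 1)) (T k) 1}
      one_mem' := ⟨one_mem _, fun _ _ => scal_one⟩
      mul_mem' := fun {α β} ha hb => ⟨mul_mem ha.1 hb.1, fun k hk => by
        have h := (ha.2 k hk).trans (hT.sec k hk) (fun x hx =>
          hT.mem_of_scal (a := fun _ => 1) ha.2 hk.le hx) (hb.2 k hk)
        rwa [one_mul] at h⟩ }
  haveI : Finite (MulAut N) :=
    Finite.of_injective (fun e : MulAut N => (e : N → N)) DFunLike.coe_injective
  { S with
    inv_mem' := fun {α} ha => by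
      have h : α⁻¹ = α ^ (orderOf α - 1) := by
        refine inv_eq_of_mul_eq_one_right ?_
        rw [← pow_succ', Nat.sub_add_cancel (orderOf_pos α), pow_orderOf_eq_one]
      rw [h]
      exact pow_mem (show α ∈ S from ha) _ }

theorem mem_flagKernel {hT : IsFlag p T M N} {A : Subgroup (MulAut N)} {α : MulAut N} :
    α ∈ flagKernel hT A ↔ α ∈ A ∧ ∀ k < M, Scal α (T (k + 1)) (T k) 1 := Iff.rfl

theorem flagKernel_isPGroup (hG : IsPGroup p G) (hT : IsFlag p T M N) (A : Subgroup (MulAut N)) :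
    IsPGroup p (flagKernel hT A) := by
  rintro ⟨γ, hγ⟩
  rw [mem_flagKernel] at hγ
  suffices h : ∀ j, j ≤ M → ∃ k, ∀ x : N, (x : G) ∈ T j → (γ ^ p ^ k) x = x by
    obtain ⟨k, hk⟩ := h M le_rfl
    exact ⟨k, Subtype.ext (MulEquiv.ext fun x => hk x (hT.top ▸ x.2))⟩
  intro j
  induction j with
  | zero =>
    refine fun _ => ⟨0, fun x hx => ?_⟩
    rw [hT.bot, mem_bot] at hx
    rw [show x = 1 from Subtype.ext hx, map_one]
  | succ j ih =>
    intro hj
    obtain ⟨k, hk⟩ := ih (by omega)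
    set η := γ ^ p ^ k
    obtain ⟨l, hl⟩ := IsPGroup.iff_card.1 (hG.to_subgroup (T j))
    refine ⟨k + l, fun x hx => ?_⟩
    have hs := scal_pow (hT.sec j (by omega)) (fun y hy => hT.mem_of_scal (a := fun _ => 1) hγ.2
      (by omega) hy) (hγ.2 j (by omega)) (p ^ k) x hx
    rw [one_pow, zpow_one] at hs
    set d : N := x⁻¹ * η x
    have hd : η d = d := hk d hs
    have hit : ∀ i : ℕ, (η ^ i) x = x * d ^ i := by
      intro i
      induction i with
      | zero => simp
      | succ i ihi =>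
        rw [pow_succ', MulAut.mul_apply, ihi, map_mul, map_pow, hd, pow_succ' d, ← mul_assoc,
          show x * d = η x by simp [d]]
    rw [pow_add, pow_mul, hit]
    have : d ^ p ^ l = 1 := by
      have h1 := pow_card_eq_one' (x := (⟨(d : G), hs⟩ : T j))
      rw [hl] at h1
      exact Subtype.ext (by simpa using congrArg Subtype.val h1)
    rw [this, mul_one]

/-- A coordinate on a section of order `p`. -/
theorem exists_coord {H K : Subgroup G} (s : Sec p H K) {x : G} (hx : x ∈ H) (hxK : x ∉ K) :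
    ∃ φ : H →* Multiplicative (ZMod p), φ ⟨x, hx⟩ = Multiplicative.ofAdd 1 ∧
      ∀ y : H, φ y = 1 ↔ (y : G) ∈ K := by
  classical
  haveI := s.nor
  have hc : Nat.card (H ⧸ K.subgroupOf H) = p := s.rel
  have hne : ((⟨x, hx⟩ : H) : H ⧸ K.subgroupOf H) ≠ 1 := fun h =>
    hxK ((QuotientGroup.eq_one_iff (⟨x, hx⟩ : H)).1 h)
  haveI : IsCyclic (H ⧸ K.subgroupOf H) := isCyclic_of_prime_card hc
  have e1 : Nat.card (H ⧸ K.subgroupOf H) = Nat.card (Multiplicative (ZMod p)) := by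
    rw [hc, Nat.card_congr Multiplicative.toAdd, Nat.card_zmod]
  set ξ := mulEquivOfCyclicCardEq e1
  have hu : Multiplicative.toAdd (ξ (⟨x, hx⟩ : H)) ≠ 0 := fun h => hne (by
    refine ξ.injective ?_
    rw [map_one]
    exact Multiplicative.toAdd.injective (h.trans toAdd_one.symm))
  set u := Multiplicative.toAdd (ξ (⟨x, hx⟩ : H))
  let ν : Multiplicative (ZMod p) →* Multiplicative (ZMod p) :=
    AddMonoidHom.toMultiplicative (AddMonoidHom.mulLeft u⁻¹)
  refine ⟨ν.comp (ξ.toMonoidHom.comp (QuotientGroup.mk' (K.subgroupOf H))), ?_, fun y => ?_⟩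
  · show Multiplicative.ofAdd (u⁻¹ * u) = _
    rw [inv_mul_cancel₀ hu]
  · show Multiplicative.ofAdd (u⁻¹ * Multiplicative.toAdd (ξ (y : H ⧸ K.subgroupOf H))) = 1 ↔ _
    rw [← ofAdd_zero, Multiplicative.ofAdd.injective.eq_iff, mul_eq_zero, or_iff_right (inv_ne_zero hu),
      toAdd_eq_zero, map_eq_one_iff _ ξ.injective, QuotientGroup.eq_one_iff, mem_subgroupOf]

/-- Commutators of powers when the commutator is central. -/
theorem comm_zpow_zpow {Q : Type u} [Group Q] {x y z : Q} (hz : ∀ q : Q, q * z = z * q)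
    (h : ⁅x, y⁆ = z) (a b : ℤ) : ⁅x ^ a, y ^ b⁆ = z ^ (a * b) := by
  have hc : ∀ (q : Q) (i : ℤ), q * z ^ i = z ^ i * q := fun q i =>
    ((show Commute q z from hz q).zpow_right i).eq
  have h1 : x * y * x⁻¹ = z * y := by rw [← h]; simp [commutatorElement_def]
  have h2 : ∀ b : ℤ, x * y ^ b * x⁻¹ = z ^ b * y ^ b := fun b => by
    rw [← conj_zpow, h1, (show Commute z y from (hz y).symm).mul_zpow]
  have h3 : x * y ^ b * x⁻¹ = z ^ b * y ^ b := h2 b
  have h4 : x⁻¹ * y ^ b * x = z ^ (-b) * y ^ b := by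
    have e : y ^ b = z ^ (-b) * (x * y ^ b * x⁻¹) := by rw [h3, ← mul_assoc, ← zpow_add]; simp
    calc x⁻¹ * y ^ b * x = x⁻¹ * (z ^ (-b) * (x * y ^ b * x⁻¹)) * x := by rw [← e]
      _ = z ^ (-b) * y ^ b := by rw [← mul_assoc, hc x⁻¹ (-b)]; group
  have key : ∀ a : ℤ, x ^ a * y ^ b * (x ^ a)⁻¹ = z ^ (a * b) * y ^ b := by
    intro a
    induction a using Int.induction_on with
    | zero => simp
    | succ i ih =>
      calc x ^ ((i : ℤ) + 1) * y ^ b * (x ^ ((i : ℤ) + 1))⁻¹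
          = x ^ (i : ℤ) * (x * y ^ b * x⁻¹) * (x ^ (i : ℤ))⁻¹ := by group
        _ = z ^ b * (x ^ (i : ℤ) * y ^ b * (x ^ (i : ℤ))⁻¹) := by
          rw [h3, ← mul_assoc, hc (x ^ (i : ℤ)) b]; group
        _ = _ := by rw [ih, ← mul_assoc, ← zpow_add]; congr 2; ring
    | pred i ih =>
      calc x ^ (-(i : ℤ) - 1) * y ^ b * (x ^ (-(i : ℤ) - 1))⁻¹
          = x ^ (-(i : ℤ)) * (x⁻¹ * y ^ b * x) * (x ^ (-(i : ℤ)))⁻¹ := by group
        _ = z ^ (-b) * (x ^ (-(i : ℤ)) * y ^ b * (x ^ (-(i : ℤ)))⁻¹) := by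
          rw [h4, ← mul_assoc, hc (x ^ (-(i : ℤ))) (-b)]; group
        _ = _ := by rw [ih, ← mul_assoc, ← zpow_add]; congr 2; ring
  rw [commutatorElement_def, key a, mul_inv_cancel_right]

/-- An automorphism acting on a commutator pairing. -/
theorem pairing {N H K C : Subgroup G} [(K.subgroupOf N).Normal] (s : Sec p H K) (hHN : H ≤ N)
    (hH : ∀ g ∈ N, ∀ h ∈ H, ⁅g, h⁆ ∈ K) (hC : ∀ g ∈ N, ∀ h ∈ C, ⁅g, h⁆ ∈ K)
    {δ : MulAut N} {y e : N} (hye : ⁅(y : G), (e : G)⁆ ∈ H) (hye' : ⁅(y : G), (e : G)⁆ ∉ K)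
    {a r b w : ℤ} {u u' : N} (hu : (u : G) ∈ C) (hu' : (u' : G) ∈ C)
    (hy : δ y = y ^ a * e ^ r * u) (he : δ e = e ^ b * u') (hw : Scal δ H K w) :
    (p : ℤ) ∣ a * b - w := by
  set π := QuotientGroup.mk' (K.subgroupOf N)
  have hcen : ∀ v : N, (∀ g ∈ N, ⁅g, (v : G)⁆ ∈ K) → ∀ q, q * π v = π v * q := by
    intro v hv q
    obtain ⟨g, rfl⟩ := QuotientGroup.mk'_surjective _ q
    rw [← commutatorElement_eq_one_iff_mul_comm, ← map_commutatorElement]
    refine (QuotientGroup.eq_one_iff _).2 (mem_subgroupOf.2 ?_)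
    simpa [commutatorElement_def] using hv g g.2
  set z := ⁅π y, π e⁆ with hzd
  have hzN : ((⁅y, e⁆ : N) : G) = ⁅(y : G), (e : G)⁆ := by simp [commutatorElement_def]
  have hz : ∀ q, q * z = z * q := by
    rw [hzd, ← map_commutatorElement]
    exact hcen _ fun g hg => hH g hg _ (hzN ▸ hye)
  have hU := hcen u fun g hg => hC g hg _ hu
  have hU' := hcen u' fun g hg => hC g hg _ hu'
  have h1 : π (δ ⁅y, e⁆) = z ^ (a * b) := by
    rw [map_commutatorElement, map_commutatorElement, hy, he]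
    simp only [map_mul, map_zpow]
    rw [← comm_zpow_zpow hz hzd.symm a b]
    set Y := π y ^ a
    set U := π u
    set U' := π u'
    set F := π e
    have hconj : ∀ v q : N ⧸ K.subgroupOf N, (∀ q, q * v = v * q) → v * q * v⁻¹ = q := fun v q hv => by
      rw [← hv q, mul_inv_cancel_right]
    have hconj' : ∀ v q : N ⧸ K.subgroupOf N, (∀ q, q * v = v * q) → q * v * q⁻¹ = v := fun v q hv => by
      rw [hv q, mul_inv_cancel_right]
    have e1 : Y * F ^ r * U * (F ^ b * U') * (Y * F ^ r * U)⁻¹ = Y * F ^ b * Y⁻¹ * U' := by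
      calc _ = Y * F ^ r * (U * (F ^ b * U') * U⁻¹) * (Y * F ^ r)⁻¹ := by group
        _ = (Y * F ^ r * F ^ b * (Y * F ^ r)⁻¹) * (Y * F ^ r * U' * (Y * F ^ r)⁻¹) := by
            rw [hconj U _ hU]; group
        _ = _ := by rw [hconj' U' _ hU']; group
    simp only [commutatorElement_def]
    rw [e1]
    group
  have h2 : π (δ ⁅y, e⁆) = z ^ w := by
    rw [hzd, ← map_commutatorElement, ← map_zpow]
    refine (QuotientGroup.eq.2 (mem_subgroupOf.2 ?_)).symm
    simpa [← hzN] using hw ⁅y, e⁆ (hzN ▸ hye)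
  refine s.dvd_of_zpow_mem hye hye' ?_
  have h3 : z ^ (a * b - w) = 1 := by rw [zpow_sub, ← h1, ← h2, mul_inv_cancel]
  rw [hzd, ← map_commutatorElement, ← map_zpow, QuotientGroup.mk'_apply, QuotientGroup.eq_one_iff,
    mem_subgroupOf] at h3
  simpa [← hzN] using h3

end CfsgLib.MaxClassEss
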